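import Mathlib
import Cfsg.Prelude.Def_Classical

/-!
The field of 25 elements coded by `x = a + 5 b ↦ a + b √2`, and unitary matrices given by codes.
-/

set_option autoImplicit false

namespace CfsgLib.Leech.U35

open scoped Matrix

/-- Addition of codes. -/
def addc (x y : ℕ) : ℕ := (x % 5 + y % 5) % 5 + 5 * ((x / 5 + y / 5) % 5)

/-- Multiplication of codes. -/
def mulc (x y : ℕ) : ℕ :=
  (x % 5 * (y % 5) + 2 * (x / 5) * (y / 5)) % 5 + 5 * ((x % 5 * (y / 5) + x / 5 * (y % 5)) % 5)

/-- The involutory automorphism on codes. -/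
def pow5c (x : ℕ) : ℕ := mulc x (mulc x (mulc x (mulc x x)))

/-- The entry of a coded vector. -/
def ent (l : List ℕ) (i : ℕ) : ℕ := l.getD i 0

/-- A row of a coded matrix times a coded vector. -/
def mvc (A v : List ℕ) (i : ℕ) : ℕ :=
  addc (addc (mulc (ent A (3 * i)) (ent v 0)) (mulc (ent A (3 * i + 1)) (ent v 1)))
    (mulc (ent A (3 * i + 2)) (ent v 2))

/-- Two coded vectors are proportional. -/
def propB (u v : List ℕ) : Bool :=
  (List.range 3).all fun i => (List.range 3).all fun j =>
    mulc (ent u i) (ent v j) == mulc (ent u j) (ent v i)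

/-- The columns are orthonormal for the Hermitian form. -/
def orthB (A : List ℕ) : Bool :=
  (List.range 3).all fun j => (List.range 3).all fun k =>
    addc (addc (mulc (ent A j) (pow5c (ent A k))) (mulc (ent A (3 + j)) (pow5c (ent A (3 + k)))))
      (mulc (ent A (6 + j)) (pow5c (ent A (6 + k)))) == if j == k then 1 else 0

/-- A product of three. -/
def mul3c (a b c : ℕ) : ℕ := mulc (mulc a b) c

/-- The determinant is one. -/
def detB (A : List ℕ) : Bool :=
  addc (addc (addc (addc (addc (mul3c (ent A 0) (ent A 4) (ent A 8))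
    (mulc 4 (mul3c (ent A 0) (ent A 5) (ent A 7)))) (mulc 4 (mul3c (ent A 1) (ent A 3) (ent A 8))))
    (mul3c (ent A 1) (ent A 5) (ent A 6))) (mul3c (ent A 2) (ent A 3) (ent A 7)))
    (mulc 4 (mul3c (ent A 2) (ent A 4) (ent A 6))) == 1

theorem exists_inv : ∀ x < 25, x ≠ 0 → ∃ y < 25, mulc x y = 1 := by decide +kernel

variable {F : Type*} [Field F]

/-- The field element of a code. -/
def val (r : F) (x : ℕ) : F := ((x % 5 : ℕ) : F) + ((x / 5 : ℕ) : F) * r

/-- The vector of a coded vector. -/
def cv (r : F) (l : List ℕ) : Fin 3 → F := fun i => val r (ent l i)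

/-- The matrix of a coded matrix. -/
def cm (r : F) (A : List ℕ) : Matrix (Fin 3) (Fin 3) F := Matrix.of fun i j => val r (ent A (3 * i + j))

variable {r : F}

theorem val_zero : val r 0 = 0 := by simp [val]

theorem val_one : val r 1 = 1 := by simp [val]

variable [CharP F 5]

theorem cast_mod (a : ℕ) : ((a % 5 : ℕ) : F) = (a : F) := (CharP.cast_eq_mod F 5 a).symm

theorem five_eq_zero : (5 : F) = 0 := by exact_mod_cast CharP.cast_eq_zero F 5

theorem code_split (p q : ℕ) :
    (p % 5 + 5 * (q % 5)) % 5 = p % 5 ∧ (p % 5 + 5 * (q % 5)) / 5 = q % 5 := by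
  constructor <;> omega

theorem val_addc (x y : ℕ) : val r (addc x y) = val r x + val r y := by
  obtain ⟨h1, h2⟩ := code_split (x % 5 + y % 5) (x / 5 + y / 5)
  rw [val, addc, h1, h2, cast_mod, cast_mod]
  simp only [val, Nat.cast_add]
  ring

theorem val_four (x : ℕ) : val r (mulc 4 x) = -val r x := by
  obtain ⟨h1, h2⟩ := code_split (4 % 5 * (x % 5) + 2 * (4 / 5) * (x / 5)) (4 % 5 * (x / 5) + 4 / 5 * (x % 5))
  rw [val, mulc, h1, h2, cast_mod, cast_mod]
  simp only [val, Nat.cast_add, Nat.cast_mul]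
  norm_num
  linear_combination ((x % 5 : ℕ) + (x / 5 : ℕ) * r) * five_eq_zero (F := F)

theorem val_mulc (hr : r * r = 2) (x y : ℕ) : val r (mulc x y) = val r x * val r y := by
  obtain ⟨h1, h2⟩ := code_split (x % 5 * (y % 5) + 2 * (x / 5) * (y / 5)) (x % 5 * (y / 5) + x / 5 * (y % 5))
  rw [val, mulc, h1, h2, cast_mod, cast_mod]
  simp only [val, Nat.cast_add, Nat.cast_mul, Nat.cast_ofNat]
  linear_combination (-((x / 5 : ℕ) : F) * ((y / 5 : ℕ) : F)) * hr

theorem val_pow5c (hr : r * r = 2) (x : ℕ) : val r (pow5c x) = val r x ^ 5 := by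
  simp only [pow5c, val_mulc hr]; ring

theorem val_ne_zero (hr : r * r = 2) {x : ℕ} (hx : x < 25) (h : x ≠ 0) : val r x ≠ 0 := by
  obtain ⟨y, -, hy⟩ := exists_inv x hx h
  intro e
  have := val_mulc hr x y
  rw [hy, e, zero_mul, val_one] at this
  exact one_ne_zero this

theorem cm_mulVec (hr : r * r = 2) (A v : List ℕ) :
    cm r A *ᵥ cv r v = cv r [mvc A v 0, mvc A v 1, mvc A v 2] := by
  funext i
  fin_cases i <;>
    simp [Matrix.mulVec, dotProduct, Fin.sum_univ_three, cm, cv, ent, mvc, val_addc, val_mulc hr]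

theorem cross_of_propB (hr : r * r = 2) {u v : List ℕ} (h : propB u v = true) (i j : Fin 3) :
    cv r u i * cv r v j = cv r u j * cv r v i := by
  simp only [propB, List.all_eq_true, List.mem_range, beq_iff_eq] at h
  have := congrArg (val r) (h i i.isLt j j.isLt)
  rwa [val_mulc hr, val_mulc hr] at this

theorem smul_of_propB (hr : r * r = 2) {u v : List ℕ} (h : propB u v = true)
    (hv : cv r v ≠ 0) : ∃ k : F, cv r u = k • cv r v := by
  obtain ⟨j, hj⟩ := Function.ne_iff.1 hv
  refine ⟨cv r u j / cv r v j, funext fun i => ?_⟩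
  have hj' : cv r v j ≠ 0 := hj
  rw [Pi.smul_apply, smul_eq_mul, div_mul_eq_mul_div, eq_div_iff hj']
  exact cross_of_propB hr h i j

/-- The member of `SU` of a checked coded matrix. -/
def suOf (hr : r * r = 2) (A : List ℕ) (hd : detB A = true) (ho : orthB A = true) :
    Cfsg.SU 3 F 5 :=
  ⟨⟨cm r A, by
      simp only [detB, beq_iff_eq] at hd
      have := congrArg (val r) hd
      simp only [mul3c, val_addc, val_four] at this
      simp only [val_mulc hr, val_one] at this
      rw [Matrix.det_fin_three]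
      simp only [cm, Matrix.of_apply, Fin.val_zero, Fin.val_one, Fin.val_two]
      linear_combination this⟩, by
    intro u v
    have : Fact (Nat.Prime 5) := ⟨by norm_num⟩
    simp only [orthB, List.all_eq_true, List.mem_range, beq_iff_eq] at ho
    have e : ∀ j k : ℕ, j < 3 → k < 3 →
        val r (ent A j) * val r (ent A k) ^ 5 + val r (ent A (3 + j)) * val r (ent A (3 + k)) ^ 5 +
          val r (ent A (6 + j)) * val r (ent A (6 + k)) ^ 5 = if j = k then 1 else 0 := fun j k hj hk => by
      have := congrArg (val r) (ho j hj k hk)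
      simp only [val_addc, val_mulc hr, val_pow5c hr] at this
      rw [this]
      split <;> simp_all [val_one, val_zero]
    have e00 := e 0 0 (by norm_num) (by norm_num)
    have e01 := e 0 1 (by norm_num) (by norm_num)
    have e02 := e 0 2 (by norm_num) (by norm_num)
    have e10 := e 1 0 (by norm_num) (by norm_num)
    have e11 := e 1 1 (by norm_num) (by norm_num)
    have e12 := e 1 2 (by norm_num) (by norm_num)
    have e20 := e 2 0 (by norm_num) (by norm_num)
    have e21 := e 2 1 (by norm_num) (by norm_num)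
    have e22 := e 2 2 (by norm_num) (by norm_num)
    norm_num at e00 e01 e02 e10 e11 e12 e20 e21 e22
    show Cfsg.hermForm 3 F 5 (cm r A *ᵥ u) (cm r A *ᵥ v) = Cfsg.hermForm 3 F 5 u v
    simp only [Cfsg.hermForm, Matrix.mulVec, dotProduct, Fin.sum_univ_three, cm, Matrix.of_apply,
      Fin.val_zero, Fin.val_one, Fin.val_two, add_pow_char, mul_pow]
    linear_combination (u 0 * v 0 ^ 5) * e00 + (u 0 * v 1 ^ 5) * e01 + (u 0 * v 2 ^ 5) * e02 +
      (u 1 * v 0 ^ 5) * e10 + (u 1 * v 1 ^ 5) * e11 + (u 1 * v 2 ^ 5) * e12 +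
      (u 2 * v 0 ^ 5) * e20 + (u 2 * v 1 ^ 5) * e21 + (u 2 * v 2 ^ 5) * e22⟩

theorem suOf_toMat (hr : r * r = 2) (A : List ℕ) (hd : detB A = true) (ho : orthB A = true) :
    Cfsg.slToMat 3 F (suOf hr A hd ho).1 = cm r A := rfl

end CfsgLib.Leech.U35
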