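import Cfsg.Agent.Leech.U35.Data
import Cfsg.Agent.Leech.U35.Field
import Cfsg.Agent.Leech.Configs

/-!
Finite checks for the stabiliser of one of the 352 vectors.
-/

set_option autoImplicit false
set_option maxRecDepth 100000

namespace CfsgLib.Leech.U35

open TreeData Cfsg

/-- The vector `hsFix[0] - y`. -/
def mate (y : List ℤ) : List ℤ := List.zipWith (fun a b => a - b) hsFix[0] y

/-- The vector of pair `a`. -/
def pairL (a : ℕ) : List ℤ := pairs.getD a []

/-- The point of pair `a`. -/
def pointL (a : ℕ) : List ℕ := points.getD a []

/-- The three fixed vectors. -/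
def fix3 : List (List ℤ) := [hsFix[0], hsFix[1], pt352]

/-- The rational basis. -/
def basisB : List (List ℤ) := fix3 ++ basisSel.map pairL

/-- The flipped basis. -/
def basisF : List (List ℤ) := fix3 ++ basisSel.map fun a => mate (pairL a)

/-- A generator with its permutation and matrix respects the pairs and the points. -/
def compatB (g : List Mv) (p : List ℕ) (A : List ℕ) : Bool :=
  (List.range 126).all fun a =>
    let b := p.getD a 0
    let y := g.foldl pact (penc (pairL a))
    decide (b < 126) && (y == penc (pairL b) || y == penc (mate (pairL b))) &&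
      propB [mvc A (pointL a) 0, mvc A (pointL a) 1, mvc A (pointL a) 2] (pointL b)

theorem tree352 : treeOK hsFix hsGens pt352 lvls352 352 = true := by decide +kernel

theorem tree252 : treeOK fix3 gens (pairL 0) lvls252 252 = true := by decide +kernel

theorem tree40 : treeOK (pairL 0 :: fix3) stabGens (pairL second) lvls40 40 = true := by
  decide +kernel

/-- The sum of the fields of `c` weighted by `ws`. -/
def fieldDot : List ℕ → ℕ → ℕ
  | [], _ => 0
  | w :: ws, c => Nat.add (Nat.mul w (Nat.mod c 32)) (fieldDot ws (Nat.shiftRight c 5))

/-- The weights of the second fixed vector, raised by eight. -/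
def weights : List ℕ := hsFix[1].map fun x => (x + 8).toNat

/-- The inner product with the second fixed vector is `-24`. -/
def is352B (c : ℕ) : Bool :=
  force c fun c => Nat.beq (Nat.add (fieldDot weights c) (Nat.add 24 (Nat.mul 128 24)))
    (Nat.add (Nat.mul 8 (fieldDot (List.replicate 24 1) c)) (Nat.mul 16 weights.sum))

theorem count352 :
    ((treeList co3mGens [penc co3mRoot] co3mLvls).countP is352B) = 352 := by
  decide +kernel

theorem gens_compat : compatB gens[0] perms[0] mats[0] = true ∧
    compatB gens[1] perms[1] mats[1] = true := by decide +kernel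

theorem mats_ok : detB mats[0] = true ∧ orthB mats[0] = true ∧ detB mats[1] = true ∧ orthB mats[1] = true := by
  decide +kernel

theorem pairs_ok : ((List.range 126).all fun a => leechB (vec (pairL a)) &&
    ((pairL a).length == 24) && (dotL hsFix[0] (pairL a) == 24)) = true := by
  decide +kernel

theorem pairs_distinct : ((List.range 126).all fun a => (List.range 126).all fun b =>
    a == b || (pairL a != pairL b && pairL a != mate (pairL b))) = true := by decide +kernel

theorem flip_uniform : ((List.range 126).all fun a =>
    dotL (pairL 0) (pairL a) != dotL (pairL 0) (mate (pairL a)) &&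
      dotL (pairL 0) (pairL a) != dotL (mate (pairL 0)) (pairL a)) = true := by decide +kernel

theorem points_ok : ((List.range 126).all fun a =>
    (List.range 3).any (fun i => decide (ent (pointL a) i < 25) && ent (pointL a) i != 0)) = true := by
  decide +kernel

theorem points_distinct : ((List.range 126).all fun a => (List.range 126).all fun b =>
    a == b || (List.range 3).any fun i => (List.range 3).any fun j =>
      let s := addc (mulc (ent (pointL a) i) (ent (pointL b) j))
        (mulc 4 (mulc (ent (pointL a) j) (ent (pointL b) i)))
      s != 0) = true := by decide +kernel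

theorem basis_ok : ((List.range 24).all fun p => (List.range 24).all fun q =>
    ((List.range 24).map fun k => (basisInv.getD p []).getD k 0 * (basisB.getD k []).getD q 0).sum ==
      if p == q then 40 else 0) = true := by decide +kernel

theorem flip_wit : leechB (vec flipWit) = true ∧
    ((List.range 24).map fun k =>
      (basisInv.getD flipPos []).getD k 0 * dotL (basisF.getD k []) flipWit).sum % 40 ≠ 0 := by
  decide +kernel

theorem frame_ok : ((List.range 3).all fun i =>
    addc (addc (mulc (frameCoef.getD 0 0) (ent (pointL 0) i)) (mulc (frameCoef.getD 1 0) (ent (pointL 1) i)))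
      (mulc (frameCoef.getD 2 0) (ent (pointL 2) i)) == ent (pointL 3) i) = true ∧
    ((List.range 3).all fun t => (List.range 3).all fun u =>
      addc (addc (mulc (ent (frameInv.getD 0 []) t) (ent (pointL u) 0))
        (mulc (ent (frameInv.getD 1 []) t) (ent (pointL u) 1)))
        (mulc (ent (frameInv.getD 2 []) t) (ent (pointL u) 2)) == if t == u then 1 else 0) = true ∧
    ((List.range 3).all fun t => decide (frameCoef.getD t 0 < 25) && frameCoef.getD t 0 != 0) = true := by
  decide +kernel

theorem pcoord_succ (c i : ℕ) : pcoord c (i + 1) = pcoord (c >>> 5) i := by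
  rw [pcoord, pcoord, show 5 * (i + 1) = 5 + 5 * i by omega, Nat.shiftRight_add]

theorem fieldDot_spec : ∀ (ws : List ℤ), (∀ w ∈ ws, -8 ≤ w) → ∀ c : ℕ,
    (fieldDot (ws.map fun x => (x + 8).toNat) c : ℤ) - 8 * fieldDot (List.replicate ws.length 1) c -
      16 * ((ws.map fun x => (x + 8).toNat).sum : ℕ) + 128 * ws.length =
      dotL ws ((List.range ws.length).map (pcoord c))
  | [], _, c => by simp [fieldDot, dotL]
  | w :: ws, h, c => by
    have ih := fieldDot_spec ws (fun x hx => h x (List.mem_cons_of_mem _ hx)) (c >>> 5)
    have hw : ((w + 8).toNat : ℤ) = w + 8 := Int.toNat_of_nonneg (by linarith [h w (by simp)])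
    rw [List.length_cons, List.range_succ_eq_map, List.map_cons, List.map_cons, List.map_map,
      List.replicate_succ, dotL, List.sum_cons, fieldDot, fieldDot]
    have e : ((pcoord c) ∘ Nat.succ) = pcoord (c >>> 5) := funext (pcoord_succ c)
    rw [e, ← ih]
    have e0 : pcoord c 0 = ((c % 32 : ℕ) : ℤ) - 16 := by simp [pcoord]
    simp only [Nat.add_eq, Nat.mul_eq, Nat.shiftRight_eq, show Nat.mod c 32 = c % 32 from rfl,
      Nat.cast_add, Nat.cast_mul, Nat.cast_one, hw, e0]
    ring

theorem is352B_iff (c : ℕ) : is352B c = true ↔ dotP hsFix[1] c = -24 := by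
  have h := fieldDot_spec hsFix[1] (by decide) c
  have hl : (hsFix[1]).length = 24 := rfl
  rw [hl] at h
  rw [is352B, force_eq, Nat.beq_eq, dotP_def, dec, ← h]
  simp only [weights, Nat.add_eq, Nat.mul_eq]
  omega

end CfsgLib.Leech.U35
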