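import Cfsg.Agent.Leech.Co0

/-!
Data of the unitary group on 126 pairs inside the Higman–Sims group.
-/

set_option autoImplicit false

namespace CfsgLib.Leech.U35

/-- A point among the 352. -/
def pt352 : List ℤ := [2, 0, 0, 0, 0, 0, 0, 0, 0, 0, 0, 2, 2, 2, 2, 2, 0, 0, 2, 0, 0, 2, 0, 0]

/-- The tree of the 352. -/
def lvls352 : List ℕ := [0x7f,
   0x1fbb7ddf77ffb,
   0x3fff2ffc95f204408633a80b3033006fd78d0db2a42cf176f7c6795e6fe67bfd7d7f1ff9,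
   0x40014000000000020080000490000000201000000080000410000000000000000002002216500000002280000002034a02820000080020000000100bc0000000000406000000001a0000000000800160084020208000000a00004000000008000040010004080901c080000040122000ab893dd47b900b010005f25004080900009c00c00090341cc6001120,
   0x200200000000000000000000000000000000000000000400000000000]

/-- Two generators of the stabiliser. -/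
def gens : List (List Mv) := [
   [.mono 564150306857986697833997942962623398299666812004958148096 0, .mono 1826603780357927675913602243916729091488369413148050691 12260934, .xi, .mono 441940888956013519395268151333094352355467571241912110091 13617794, .xi, .mono 467132039942701145446913280191859733249399227945261012741 9893393, .mono 564154434161200215254675764420661882197403043334027873536 0, .mono 173080339550280164358636206188469050708040714652765522441 937581, .xi, .mono 369811473173942393944497170767032933541190179847011898376 802710, .xi, .mono 269725977674921014454965231001905216275011261625737219841 8891594, .mono 540110776749289666075264399958588029568282473572294397461 2016287, .xi, .mono 393283031581562687082258295227427807488128291910905042436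 5304288, .xi, .mono 441843612908499174892299206344285534007822020235942364936 11524922, .mono 564537550716073151248651567849026742489558501340285895936 0],
   [.mono 564150306857986697833997942962623398299666812004958148096 0, .mono 564154434161200215254675764420661882197403043334027873536 0, .mono 565690678488042626584852509485807885450515210472234942976 0, .mono 369625133136989449594039426345408981030391801101025282061 16235206, .xi, .mono 245296209039858177097558596684517191481222564751703543561 9718991, .xi, .mono 296442117918511673341257874715953101420204617944672633611 2358342, .mono 564055655684447809178994725674674970957398741043463460096 0, .mono 173080339550280164358636206188469050708040714652765522441 937581, .xi, .mono 369811473173942393944497170767032933541190179847011898376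 802710, .xi, .mono 269725977674921014454965231001905216275011261625737219841 8891594, .mono 565977254085429974359793731459239156709767356358131256576 0]]

/-- Their permutations of the 126 pairs. -/
def perms : List (List ℕ) := [
   [3, 11, 22, 30, 38, 8, 51, 59, 58, 70, 73, 47, 86, 69, 49, 74, 23, 24, 76, 61, 62, 53, 110, 111, 48, 17, 67, 79, 117, 88, 90, 84, 1, 37, 63, 26, 105, 66, 16, 122, 29, 27, 112, 36, 101, 125, 52, 15, 31, 68, 20, 94, 19, 42, 108, 65, 0, 54, 115, 50, 55, 10, 95, 46, 5, 97, 119, 12, 120, 121, 81, 118, 89, 34, 100, 85, 104, 56, 109, 9, 41, 114, 39, 13, 98, 123, 40, 93, 35, 4, 44, 116, 92, 43, 64, 78, 96, 71, 124, 87, 107, 77, 72, 57, 91, 45, 2, 32, 83, 7, 75, 102, 14, 106, 80, 6, 82, 60, 28, 33, 21, 103, 18, 113, 25, 99],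
   [9, 19, 6, 35, 30, 49, 56, 62, 68, 72, 78, 2, 61, 81, 47, 79, 70, 36, 66, 16, 108, 105, 63, 13, 57, 41, 101, 114, 14, 119, 82, 5, 1, 77, 18, 27, 89, 85, 45, 69, 42, 117, 116, 65, 12, 24, 43, 107, 23, 38, 74, 122, 87, 21, 37, 17, 115, 31, 83, 100, 98, 3, 58, 91, 106, 84, 60, 4, 124, 71, 86, 113, 10, 39, 29, 28, 97, 50, 109, 118, 48, 20, 120, 76, 54, 46, 93, 73, 90, 8, 11, 92, 59, 32, 51, 26, 22, 110, 103, 0, 96, 112, 25, 125, 121, 94, 67, 104, 80, 99, 7, 33, 40, 52, 44, 88, 95, 15, 102, 111, 64, 75, 123, 53, 55, 34]]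

/-- One vector of each pair. -/
def pairs : List (List ℤ) := [
   [0, 2, 2, 0, 0, 0, 0, 0, 0, 0, 0, 0, 0, 0, 2, 0, 2, 0, 2, 2, 2, 0, 0, 2],
   [0, 0, 2, 2, 0, 2, 0, 0, 2, 0, 2, 0, 2, 0, 0, 2, 0, 0, 0, 0, 0, 0, 0, 2],
   [0, 0, 0, 0, 0, 2, 2, 0, 0, 0, 0, 2, 0, 0, 0, 0, 2, 0, 0, 2, 2, 2, 0, 2],
   [0, 2, 2, 0, 2, 2, 0, 0, 0, 0, 0, 0, 2, 0, 0, 0, 0, 0, 0, 0, 2, 2, 0, 2],
   [1, 1, -1, 1, -1, -1, 1, 1, -1, 1, 1, 1, 1, 1, -1, 1, 1, 1, -1, 1, 1, 1, -1, 3],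
   [1, 1, -1, 1, 1, 1, 1, 1, -1, -1, -1, -1, 1, -1, 1, 1, 1, 1, 1, 1, 1, 1, -1, 3],
   [1, 1, -1, 1, 1, -1, -1, 1, 1, 1, 1, 1, -1, 1, 1, 1, 1, -1, -1, -1, 1, 1, 1, 3],
   [0, 0, 2, 2, 0, 0, 0, 0, 0, 0, 0, 0, 0, 0, 0, 2, 0, 2, 0, 2, 2, 2, 0, 2],
   [0, 0, 0, 0, 2, 0, 0, 0, 0, 0, 2, 2, 0, 0, 2, 0, 2, 0, 0, 2, 0, 0, 2, 2],
   [0, 0, 0, 2, 0, 0, 0, 2, 0, 0, 0, 2, 0, 0, 2, 0, 2, 2, 0, 0, 2, 0, 0, 2],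
   [1, 1, 1, 1, -1, 1, -1, -1, 1, 1, 1, -1, 1, 1, 1, -1, 1, -1, 1, -1, 1, 1, 1, 3],
   [1, 1, -1, -1, 1, -1, -1, 1, 1, 1, 1, 1, 1, -1, 1, 1, 1, 1, 1, 1, 1, -1, -1, 3],
   [0, 0, 0, 0, 0, 2, 2, 0, 0, 2, 0, 2, 0, 0, 2, 0, 0, 2, 0, 0, 0, 0, 2, 2],
   [1, 1, -1, -1, 1, 1, -1, 1, -1, 1, 1, -1, 1, 1, -1, 1, 1, 1, 1, -1, 1, 1, 1, 3],
   [0, 0, 2, 2, 0, 2, 0, 0, 0, 2, 0, 2, 0, 0, 0, 0, 0, 0, 2, 0, 2, 0, 0, 2],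
   [1, -1, 1, 1, -1, 1, -1, 1, -1, 1, 1, -1, 1, 1, 1, 1, 1, 1, 1, 1, 1, -1, -1, 3],
   [1, 1, 1, -1, -1, 1, 1, 1, 1, -1, 1, 1, 1, 1, -1, 1, 1, -1, -1, -1, 1, 1, 1, 3],
   [1, -1, -1, 1, -1, 1, 1, -1, 1, -1, 1, -1, 1, 1, -1, 1, 1, 1, 1, 1, 1, 1, 1, 3],
   [1, 1, 1, 1, 1, 1, 1, 1, -1, 1, 1, -1, 1, 1, 1, 1, 1, -1, -1, -1, -1, 1, -1, 3],
   [0, 2, 2, 2, 0, 0, 0, 0, 0, 2, 0, 0, 2, 2, 0, 0, 0, 0, 0, 2, 0, 0, 0, 2],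
   [0, 0, 2, 0, 0, 0, 0, 0, 2, 2, 0, 0, 2, 0, 2, 0, 0, 2, 0, 0, 2, 0, 0, 2],
   [0, 0, 0, 0, 0, 0, 2, 0, 2, 2, 0, 0, 0, 2, 0, 0, 0, 2, 0, 2, 0, 2, 0, 2],
   [0, 2, 2, 0, 0, 2, 0, 2, 0, 0, 2, 0, 0, 2, 0, 0, 0, 0, 2, 0, 0, 0, 0, 2],
   [0, 2, 0, 2, 0, 0, 0, 2, 0, 0, 2, 0, 0, 0, 2, 2, 0, 0, 0, 2, 0, 0, 0, 2],
   [0, 0, 2, 2, 2, 0, 0, 0, 0, 0, 0, 2, 2, 0, 0, 0, 0, 2, 0, 0, 0, 0, 2, 2],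
   [1, -1, -1, -1, 1, 1, 1, 1, 1, 1, -1, -1, 1, 1, 1, 1, -1, 1, 1, 1, 1, -1, 1, 3],
   [1, 1, 1, 1, -1, -1, 1, 1, 1, 1, -1, 1, 1, 1, 1, -1, 1, 1, -1, -1, -1, 1, 1, 3],
   [1, -1, 1, 1, 1, 1, 1, 1, 1, -1, 1, -1, -1, 1, 1, 1, -1, 1, 1, 1, -1, 1, -1, 3],
   [1, 1, 1, 1, -1, -1, -1, -1, 1, -1, 1, 1, 1, 1, 1, 1, 1, 1, -1, 1, 1, -1, 1, 3],
   [0, 2, 0, 0, 0, 0, 0, 0, 0, 0, 2, 0, 0, 2, 0, 0, 0, 0, 0, 2, 2, 2, 2, 2],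
   [0, 2, 2, 0, 0, 0, 0, 2, 0, 0, 0, 0, 2, 0, 0, 2, 2, 2, 0, 0, 0, 0, 0, 2],
   [0, 0, 0, 2, 0, 0, 2, 0, 0, 0, 2, 2, 0, 0, 0, 2, 0, 0, 0, 0, 2, 0, 2, 2],
   [1, 1, 1, -1, 1, 1, 1, 1, -1, 1, -1, 1, 1, 1, -1, 1, 1, -1, 1, 1, 1, -1, -1, 3],
   [1, -1, 1, 1, 1, -1, -1, 1, 1, 1, -1, 1, 1, 1, 1, -1, 1, -1, 1, 1, 1, -1, 1, 3],
   [0, 0, 2, 0, 0, 2, 0, 2, 2, 0, 0, 2, 0, 0, 0, 0, 0, 2, 0, 0, 0, 2, 0, 2],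
   [0, 2, 0, 2, 2, 0, 0, 2, 0, 0, 0, 0, 0, 2, 0, 0, 0, 2, 0, 0, 0, 2, 0, 2],
   [0, 0, 2, 0, 2, 0, 2, 0, 0, 0, 0, 0, 0, 0, 2, 0, 2, 2, 0, 0, 0, 2, 0, 2],
   [0, 2, 0, 0, 0, 0, 2, 2, 2, 0, 0, 0, 0, 0, 2, 0, 0, 2, 2, 0, 0, 0, 0, 2],
   [1, 1, 1, 1, -1, 1, 1, 1, 1, 1, 1, 1, -1, -1, 1, 1, -1, -1, 1, -1, -1, 1, 1, 3],
   [0, 0, 0, 0, 2, 0, 0, 2, 2, 0, 0, 0, 0, 0, 2, 0, 0, 0, 0, 2, 2, 2, 0, 2],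
   [0, 0, 0, 0, 0, 0, 2, 0, 2, 0, 0, 0, 0, 2, 2, 0, 2, 0, 0, 0, 2, 0, 2, 2],
   [1, 1, -1, -1, -1, 1, 1, 1, 1, 1, -1, 1, 1, -1, -1, 1, 1, 1, 1, 1, -1, 1, 1, 3],
   [0, 2, 0, 0, 2, 2, 2, 0, 0, 0, 0, 0, 0, 2, 2, 0, 0, 0, 0, 2, 0, 0, 0, 2],
   [0, 2, 2, 0, 0, 0, 0, 0, 0, 2, 0, 0, 0, 0, 0, 0, 0, 2, 2, 0, 0, 2, 2, 2],
   [1, 1, 1, 1, -1, -1, 1, 1, -1, 1, -1, 1, 1, -1, 1, 1, -1, 1, 1, 1, 1, -1, 1, 3],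
   [0, 2, 2, 0, 0, 0, 2, 0, 0, 0, 2, 0, 2, 0, 2, 0, 0, 0, 0, 0, 0, 0, 2, 2],
   [0, 0, 0, 0, 0, 0, 0, 2, 0, 0, 2, 0, 0, 0, 0, 0, 2, 2, 2, 2, 0, 2, 0, 2],
   [1, -1, 1, 1, 1, 1, 1, 1, 1, -1, -1, 1, 1, -1, -1, 1, -1, -1, 1, 1, 1, 1, 1, 3],
   [0, 2, 0, 2, 0, 2, 0, 0, 2, 0, 0, 0, 0, 0, 0, 0, 0, 0, 2, 2, 0, 2, 0, 2],
   [1, 1, -1, 1, -1, 1, 1, 1, 1, -1, -1, 1, -1, 1, 1, 1, -1, 1, -1, 1, 1, 1, 1, 3],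
   [0, 2, 2, 2, 2, 0, 2, 0, 0, 0, 0, 0, 0, 0, 0, 2, 0, 0, 2, 0, 0, 0, 0, 2],
   [0, 0, 0, 2, 0, 0, 0, 2, 0, 2, 0, 2, 0, 0, 0, 0, 0, 0, 0, 2, 0, 2, 2, 2],
   [1, 1, 1, 1, 1, 1, 1, 1, 1, -1, -1, 1, -1, 1, 1, -1, 1, -1, 1, -1, 1, 1, -1, 3],
   [1, 1, 1, -1, -1, 1, 1, -1, 1, -1, 1, 1, -1, 1, 1, -1, 1, 1, 1, 1, -1, 1, 1, 3],
   [0, 0, 0, 0, 0, 0, 2, 0, 2, 0, 2, 2, 2, 0, 0, 0, 2, 2, 0, 0, 0, 0, 0, 2],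
   [0, 2, 2, 0, 0, 2, 0, 0, 0, 0, 0, 2, 0, 0, 0, 2, 0, 0, 0, 2, 0, 0, 2, 2],
   [1, 1, -1, 1, 1, 1, -1, 1, -1, 1, -1, 1, 1, 1, 1, 1, 1, 1, -1, 1, -1, -1, 1, 3],
   [1, 1, -1, 1, -1, -1, 1, 1, 1, -1, 1, 1, 1, -1, 1, -1, 1, -1, 1, 1, 1, 1, 1, 3],
   [1, 1, 1, 1, -1, -1, 1, -1, 1, 1, 1, -1, 1, -1, 1, 1, 1, 1, 1, 1, -1, 1, -1, 3],
   [1, 1, 1, -1, -1, 1, 1, 1, -1, 1, 1, 1, 1, -1, 1, -1, 1, 1, 1, -1, 1, 1, -1, 3],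
   [0, 0, 0, 2, 0, 2, 0, 2, 0, 0, 0, 0, 0, 0, 0, 2, 0, 2, 2, 0, 0, 0, 2, 2],
   [0, 0, 0, 2, 0, 0, 2, 2, 0, 0, 0, 0, 0, 2, 0, 0, 0, 0, 2, 2, 2, 0, 0, 2],
   [0, 0, 0, 2, 0, 2, 0, 2, 2, 2, 0, 0, 0, 2, 2, 0, 0, 0, 0, 0, 0, 0, 0, 2],
   [0, 0, 0, 0, 0, 2, 0, 0, 2, 2, 0, 0, 0, 0, 0, 2, 0, 0, 0, 0, 2, 2, 2, 2],
   [0, 0, 0, 2, 2, 0, 2, 0, 0, 2, 0, 2, 0, 2, 0, 0, 2, 0, 0, 0, 0, 0, 0, 2],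
   [0, 0, 0, 0, 2, 2, 0, 2, 0, 0, 2, 0, 2, 0, 2, 0, 0, 2, 0, 0, 0, 0, 0, 2],
   [0, 0, 0, 0, 0, 2, 0, 2, 0, 2, 2, 2, 0, 0, 0, 2, 2, 0, 0, 0, 0, 0, 0, 2],
   [0, 0, 0, 0, 0, 2, 0, 2, 2, 0, 0, 0, 2, 0, 0, 0, 2, 0, 2, 0, 2, 0, 0, 2],
   [0, 0, 2, 0, 2, 0, 0, 0, 2, 0, 0, 2, 0, 0, 0, 2, 2, 0, 0, 0, 2, 0, 0, 2],
   [0, 0, 0, 2, 0, 0, 2, 2, 2, 0, 0, 0, 0, 0, 0, 2, 2, 0, 0, 0, 0, 2, 0, 2],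
   [1, 1, 1, 1, 1, -1, 1, 1, -1, 1, 1, 1, 1, 1, -1, -1, -1, -1, 1, -1, 1, 1, 1, 3],
   [0, 2, 0, 0, 2, 2, 0, 0, 0, 0, 0, 2, 0, 0, 0, 0, 2, 2, 2, 0, 0, 0, 0, 2],
   [1, -1, 1, 1, -1, 1, 1, -1, 1, 1, 1, 1, -1, 1, 1, 1, 1, 1, -1, -1, 1, 1, -1, 3],
   [0, 2, 0, 0, 2, 0, 0, 0, 0, 2, 0, 0, 0, 0, 0, 2, 2, 0, 0, 2, 0, 2, 0, 2],
   [1, 1, -1, 1, 1, 1, 1, -1, 1, 1, 1, 1, 1, -1, -1, 1, 1, -1, 1, -1, 1, 1, -1, 3],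
   [1, 1, 1, -1, 1, -1, -1, 1, 1, 1, -1, 1, 1, 1, -1, 1, -1, 1, -1, 1, 1, 1, 1, 3],
   [1, -1, 1, -1, 1, 1, 1, 1, -1, -1, 1, -1, 1, 1, 1, -1, 1, -1, 1, 1, 1, 1, 1, 3],
   [1, 1, 1, 1, 1, 1, -1, 1, 1, -1, 1, 1, 1, 1, 1, -1, -1, -1, -1, 1, -1, 1, 1, 3],
   [0, 2, 0, 2, 0, 0, 0, 0, 0, 0, 2, 0, 2, 0, 0, 0, 0, 2, 2, 0, 2, 0, 0, 2],
   [0, 0, 2, 0, 2, 0, 0, 2, 0, 0, 2, 0, 0, 0, 0, 2, 0, 0, 0, 0, 0, 2, 2, 2],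
   [0, 0, 2, 0, 0, 0, 2, 2, 0, 0, 0, 2, 0, 0, 0, 0, 2, 0, 2, 0, 0, 0, 2, 2],
   [1, 1, -1, -1, 1, 1, 1, 1, 1, -1, 1, 1, 1, 1, -1, -1, -1, 1, 1, 1, 1, 1, -1, 3],
   [0, 2, 0, 0, 0, 0, 0, 0, 2, 0, 2, 0, 0, 0, 0, 2, 2, 0, 2, 0, 0, 0, 2, 2],
   [0, 0, 0, 2, 0, 2, 0, 0, 0, 0, 0, 0, 2, 0, 2, 0, 0, 0, 0, 2, 2, 0, 2, 2],
   [0, 0, 0, 0, 0, 0, 0, 2, 0, 2, 2, 0, 0, 0, 2, 0, 0, 0, 2, 0, 2, 0, 2, 2],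
   [0, 2, 0, 0, 2, 0, 0, 0, 2, 2, 0, 0, 0, 2, 0, 0, 0, 0, 2, 0, 2, 0, 0, 2],
   [0, 0, 0, 0, 2, 0, 2, 0, 0, 0, 2, 0, 0, 2, 0, 0, 0, 2, 2, 0, 0, 0, 2, 2],
   [0, 0, 0, 0, 2, 2, 0, 0, 2, 2, 0, 2, 2, 0, 0, 0, 0, 0, 0, 2, 0, 0, 0, 2],
   [1, -1, 1, 1, 1, -1, 1, -1, 1, 1, 1, 1, 1, 1, -1, 1, -1, 1, 1, 1, 1, -1, -1, 3],
   [1, -1, 1, 1, 1, 1, -1, 1, 1, -1, -1, -1, 1, 1, 1, 1, 1, 1, -1, -1, 1, 1, 1, 3],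
   [1, 1, 1, 1, 1, -1, 1, 1, 1, -1, 1, 1, 1, -1, 1, 1, -1, 1, -1, -1, 1, 1, -1, 3],
   [1, -1, 1, 1, 1, 1, 1, -1, -1, -1, -1, 1, -1, 1, 1, 1, 1, 1, 1, 1, 1, -1, 1, 3],
   [0, 0, 0, 2, 2, 0, 2, 0, 0, 0, 2, 0, 2, 0, 0, 0, 0, 0, 0, 2, 0, 2, 0, 2],
   [0, 2, 0, 2, 0, 0, 2, 0, 0, 2, 0, 0, 0, 0, 2, 0, 0, 0, 0, 0, 2, 2, 0, 2],
   [0, 2, 0, 0, 0, 0, 2, 0, 2, 0, 0, 0, 2, 0, 0, 2, 0, 0, 0, 2, 2, 0, 0, 2],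
   [0, 0, 2, 0, 0, 2, 2, 2, 0, 0, 0, 0, 0, 0, 2, 2, 0, 0, 0, 0, 2, 0, 0, 2],
   [0, 0, 0, 0, 0, 0, 2, 2, 0, 2, 0, 0, 2, 0, 2, 0, 2, 0, 0, 2, 0, 0, 0, 2],
   [0, 0, 2, 0, 0, 2, 0, 0, 0, 2, 2, 0, 0, 0, 2, 0, 0, 0, 0, 2, 0, 2, 0, 2],
   [0, 0, 0, 2, 2, 0, 0, 0, 0, 0, 0, 0, 0, 0, 0, 0, 2, 0, 2, 0, 2, 2, 2, 2],
   [0, 0, 0, 0, 0, 0, 2, 2, 0, 0, 0, 0, 2, 0, 0, 0, 0, 2, 0, 0, 2, 2, 2, 2],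
   [1, 1, -1, 1, 1, 1, 1, -1, -1, -1, 1, 1, 1, 1, 1, -1, 1, 1, -1, -1, 1, 1, 1, 3],
   [0, 2, 0, 0, 0, 0, 0, 2, 2, 0, 0, 2, 0, 2, 0, 0, 2, 0, 0, 2, 0, 0, 0, 2],
   [0, 2, 0, 0, 0, 2, 0, 0, 2, 0, 2, 2, 0, 0, 2, 0, 0, 0, 0, 0, 2, 0, 0, 2],
   [0, 0, 0, 0, 0, 0, 0, 2, 2, 0, 2, 0, 0, 2, 0, 2, 0, 2, 0, 0, 2, 0, 0, 2],
   [0, 2, 0, 2, 0, 2, 0, 0, 0, 0, 0, 0, 0, 2, 0, 2, 2, 0, 0, 0, 2, 0, 0, 2],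
   [0, 2, 2, 0, 0, 0, 2, 0, 0, 0, 0, 2, 0, 2, 0, 0, 0, 2, 0, 0, 2, 0, 0, 2],
   [1, -1, 1, -1, 1, -1, -1, -1, 1, 1, 1, -1, -1, 1, 1, 1, 1, 1, 1, 1, 1, 1, 1, 3],
   [1, -1, 1, 1, 1, 1, -1, -1, 1, -1, 1, 1, 1, -1, 1, -1, 1, 1, 1, 1, 1, 1, -1, 3],
   [0, 0, 0, 2, 0, 2, 0, 0, 0, 2, 0, 0, 2, 0, 0, 0, 2, 2, 0, 0, 0, 2, 0, 2],
   [0, 0, 0, 2, 0, 2, 0, 0, 0, 0, 2, 2, 0, 2, 0, 0, 0, 2, 0, 2, 0, 0, 0, 2],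
   [0, 2, 0, 2, 2, 0, 0, 0, 2, 0, 0, 0, 2, 0, 2, 0, 2, 0, 0, 0, 0, 0, 0, 2],
   [1, 1, -1, 1, 1, 1, -1, 1, 1, 1, -1, 1, 1, -1, 1, -1, -1, 1, 1, -1, 1, 1, 1, 3],
   [1, -1, 1, 1, 1, -1, 1, 1, -1, 1, 1, 1, -1, -1, 1, 1, 1, -1, 1, 1, 1, 1, -1, 3],
   [0, 0, 0, 2, 0, 0, 2, 0, 2, 2, 0, 0, 2, 0, 0, 0, 0, 0, 2, 0, 0, 0, 2, 2],
   [0, 0, 0, 0, 2, 0, 0, 0, 0, 2, 2, 2, 0, 0, 0, 0, 0, 2, 0, 0, 2, 2, 0, 2],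
   [1, 1, 1, -1, 1, 1, 1, -1, 1, 1, -1, 1, -1, -1, 1, 1, -1, 1, 1, 1, 1, 1, -1, 3],
   [0, 0, 0, 0, 0, 2, 2, 0, 0, 2, 2, 0, 2, 2, 0, 0, 0, 0, 0, 0, 2, 0, 0, 2],
   [1, 1, -1, -1, 1, 1, 1, 1, -1, 1, 1, 1, 1, -1, 1, 1, -1, -1, -1, 1, 1, 1, 1, 3],
   [1, 1, -1, 1, -1, 1, -1, -1, -1, 1, 1, 1, -1, -1, 1, 1, 1, 1, 1, 1, 1, 1, 1, 3],
   [1, 1, 1, -1, -1, 1, 1, -1, -1, 1, -1, -1, 1, 1, 1, 1, 1, 1, -1, 1, 1, 1, 1, 3],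
   [1, 1, -1, 1, 1, 1, 1, -1, 1, 1, -1, -1, -1, 1, 1, 1, 1, 1, 1, -1, -1, 1, 1, 3],
   [1, 1, 1, 1, -1, -1, -1, 1, 1, 1, 1, 1, -1, 1, 1, -1, -1, 1, 1, 1, 1, 1, -1, 3],
   [0, 0, 0, 0, 2, 0, 2, 0, 2, 2, 2, 0, 0, 0, 2, 2, 0, 0, 0, 0, 0, 0, 0, 2],
   [1, 1, -1, 1, 1, 1, 1, 1, -1, 1, 1, 1, -1, 1, 1, 1, -1, 1, 1, -1, 1, -1, -1, 3],
   [1, 1, -1, 1, 1, 1, 1, -1, 1, -1, 1, 1, 1, -1, 1, 1, -1, 1, 1, 1, -1, -1, 1, 3],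
   [0, 2, 0, 0, 2, 0, 0, 0, 0, 0, 0, 0, 0, 0, 2, 2, 0, 2, 0, 0, 2, 0, 2, 2]]

/-- The isotropic point of each pair, coded over the field of 25 elements. -/
def points : List (List ℕ) := [
   [1, 13, 11],
   [1, 19, 1],
   [1, 1, 14],
   [1, 11, 18],
   [1, 7, 15],
   [1, 20, 1],
   [0, 1, 2],
   [1, 15, 8],
   [1, 18, 5],
   [1, 17, 16],
   [1, 8, 15],
   [0, 1, 9],
   [1, 1, 5],
   [1, 14, 12],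
   [1, 8, 22],
   [1, 5, 4],
   [0, 1, 3],
   [1, 18, 11],
   [1, 0, 2],
   [1, 10, 15],
   [1, 24, 0],
   [1, 16, 18],
   [1, 19, 12],
   [1, 11, 1],
   [1, 19, 13],
   [1, 4, 5],
   [1, 12, 16],
   [1, 10, 22],
   [1, 22, 8],
   [1, 7, 22],
   [1, 16, 4],
   [1, 17, 19],
   [0, 1, 24],
   [1, 11, 4],
   [1, 13, 5],
   [1, 19, 18],
   [1, 13, 19],
   [1, 6, 0],
   [1, 15, 23],
   [1, 17, 5],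
   [1, 18, 14],
   [1, 11, 12],
   [1, 15, 10],
   [1, 23, 10],
   [1, 1, 20],
   [1, 4, 14],
   [1, 2, 0],
   [1, 16, 1],
   [1, 10, 8],
   [1, 15, 7],
   [1, 15, 15],
   [1, 14, 1],
   [1, 21, 0],
   [1, 20, 12],
   [0, 1, 21],
   [1, 13, 14],
   [1, 17, 20],
   [1, 10, 10],
   [1, 0, 9],
   [1, 17, 14],
   [1, 8, 23],
   [1, 22, 22],
   [1, 18, 20],
   [1, 10, 7],
   [0, 1, 6],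
   [1, 0, 24],
   [1, 7, 10],
   [1, 13, 16],
   [1, 8, 7],
   [1, 19, 17],
   [1, 0, 21],
   [1, 10, 23],
   [1, 11, 13],
   [1, 14, 13],
   [1, 23, 15],
   [1, 20, 4],
   [1, 4, 11],
   [1, 23, 8],
   [1, 0, 6],
   [1, 7, 8],
   [1, 19, 4],
   [1, 20, 13],
   [1, 8, 8],
   [1, 22, 23],
   [1, 16, 13],
   [1, 12, 19],
   [1, 11, 17],
   [1, 22, 15],
   [1, 22, 10],
   [1, 8, 10],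
   [1, 7, 7],
   [1, 23, 7],
   [1, 12, 14],
   [1, 12, 5],
   [1, 1, 11],
   [1, 12, 20],
   [1, 23, 22],
   [1, 15, 22],
   [1, 4, 19],
   [1, 16, 17],
   [1, 16, 12],
   [1, 22, 7],
   [1, 7, 23],
   [1, 23, 23],
   [1, 0, 3],
   [1, 18, 19],
   [1, 5, 12],
   [1, 3, 0],
   [1, 5, 1],
   [1, 18, 16],
   [1, 14, 4],
   [1, 14, 17],
   [1, 1, 16],
   [1, 4, 20],
   [1, 5, 13],
   [1, 14, 18],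
   [1, 20, 18],
   [1, 17, 11],
   [1, 12, 11],
   [1, 20, 17],
   [1, 5, 17],
   [1, 13, 20],
   [1, 1, 19],
   [1, 5, 18],
   [1, 9, 0],
   [1, 4, 16]]

/-- The matrices of the generators, row by row. -/
def mats : List (List ℕ) := [
   [11, 8, 1, 0, 7, 21, 19, 8, 1],
   [3, 6, 16, 18, 24, 12, 13, 20, 23]]

/-- The tree of the 252. -/
def lvls252 : List ℕ := [0x3,
   0xf,
   0xff,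
   0xffff,
   0xfdff7cfe,
   0x3ff7ff5ffffffe,
   0x5fefaf2f371277a5db0edffed,
   0x51bac22ba112a85518b6bab52a8547,
   0xc080004040002e14828c81101a0,
   0x200]

/-- Words in the generators fixing the first vector. -/
def stabWords : List (List ℕ) := [
   [0, 1, 0, 1, 0, 0, 0],
   [1, 1, 0, 1, 0, 0, 0, 1, 0]]

/-- Their moves. -/
def stabGens : List (List Mv) := stabWords.map fun w => w.flatMap fun k => gens.getD k []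

/-- The second base vector. -/
def second : ℕ := 1

/-- The tree of 40 points in the second orbit. -/
def lvls40 : List ℕ := [0x3,
   0xf,
   0xff,
   0x7ffe,
   0x7ff]

/-- Coefficients of the fourth point in the first three. -/
def frameCoef : List ℕ := [16, 24, 16]

/-- The coordinate functionals of the first three points. -/
def frameInv : List (List ℕ) := [
   [20, 12, 24],
   [22, 5, 3],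
   [23, 23, 14]]

/-- The pairs completing a rational basis. -/
def basisSel : List ℕ := [118, 2, 53, 107, 117, 71, 82, 12, 23, 80, 92, 110, 37, 15, 95, 42, 114, 124, 91, 64, 119]

/-- Forty times the coordinates of the unit vectors in the basis. -/
def basisInv : List (List ℤ) := [
   [-3, -7, -1, 0, -2, 3, 1, 5, 1, -1, -2, -1, -3, 0, -1, 2, 0, 0, -4, -3, -1, 2, 3, 0],
   [-1, -1, -1, 12, 2, 3, -15, -11, -3, -11, -14, -5, 13, -6, 11, -6, 2, 6, 10, 13, 17, -12, -5, 2],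
   [-1, -1, -1, 2, -8, -7, 15, -11, -3, -1, -4, 5, 13, -6, -9, -6, -8, 6, 10, 3, 7, -12, 5, 12],
   [9, -1, -1, 12, 2, 3, -15, -11, -3, -11, -4, -5, 3, 4, 11, -6, 2, 6, 0, 3, 7, -2, -5, -8],
   [-1, -1, -1, -8, -8, -7, 15, 9, 7, 9, 6, 5, -7, 4, -9, 4, -8, -4, 0, -7, -13, 8, 5, 2],
   [9, -1, -1, 2, 2, 3, -5, -1, 7, -1, 6, -5, -7, 4, 1, -6, 2, 6, 0, -7, -3, -2, -5, -8],
   [-11, -1, -1, 2, 2, 3, -5, -1, -3, -1, -4, -5, 3, 4, 1, 4, 2, 6, 0, 3, 7, -2, 5, 2],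
   [9, -1, -1, -8, 2, 3, -5, 9, 7, -1, 6, 5, -7, 4, 1, 4, 2, -4, -10, -7, -13, 8, -5, -8],
   [9, -1, -1, -8, 2, -7, 15, -1, -3, 9, 6, 5, -7, -6, -9, 4, -8, -4, 0, -7, -3, -2, 5, 2],
   [-1, -1, -1, 2, -8, -17, 25, -1, -3, 9, 6, 5, 3, -6, -19, 4, -8, -4, 10, -7, -3, -12, 15, 12],
   [-11, -1, -1, 2, 2, 13, -15, -1, -3, -1, -4, -5, 3, 4, 11, -6, 12, 6, 0, 13, 7, -2, -5, -8],
   [-1, 1, 3, 0, 6, 1, -3, -5, -3, -7, -4, 3, 9, -10, 3, -6, 0, 0, 2, 9, 13, -6, 1, 0],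
   [-1, 1, 3, 0, 6, 1, -13, -5, -3, -7, -4, -7, 9, 0, 13, -6, 10, 0, 2, 9, 13, -6, -9, 0],
   [9, 1, 3, 0, 6, 11, -23, -5, -3, -7, -4, -7, -1, 0, 13, -6, 10, 0, 2, 9, 3, 4, -9, -10],
   [-11, 1, 3, 0, -4, 1, 7, 5, -3, 3, 6, 3, -1, 0, 3, 4, 0, 0, 2, -1, -7, 4, 1, 0],
   [-1, 1, 3, -10, -4, -9, 17, 5, 7, 13, 6, 13, -11, 0, -17, 4, -10, 0, -8, -11, -7, 4, 11, 10],
   [-11, -1, -1, -8, 2, 3, 5, 9, 7, 9, 6, 5, -7, 4, 1, 4, 2, -4, -10, -7, -13, 8, 5, 2],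
   [-1, -1, -1, -8, 2, 3, -5, -1, 7, -1, 6, 5, -7, 4, 1, 4, 2, -4, -10, 3, -3, 8, -5, 2],
   [-1, 1, 3, 10, -4, -9, 7, -5, -3, 3, -4, -7, 9, 0, -7, 4, 0, 0, 12, -1, 3, -6, 1, 0],
   [-1, -1, -1, -8, 2, -17, 25, -1, -3, 9, 6, 15, 3, -6, -19, 4, -8, -14, 10, -7, -3, -2, 5, 12],
   [-1, -1, -1, 12, 12, 3, -25, -11, -13, -11, -14, -15, 13, -6, 21, -6, 12, 6, 10, 23, 17, -2, -15, -8],
   [9, 1, 3, 0, -4, 1, 7, 5, 7, 3, 6, 3, -11, 10, -7, 4, -10, 0, -8, -11, -17, 4, 1, 0],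
   [9, -1, -1, 2, 2, 3, -15, -1, -3, -1, 6, -5, 3, 4, 11, -6, 2, -4, 0, 3, -3, 8, -15, -8],
   [7, 3, -1, 0, -2, 3, 1, 5, 1, -1, -2, -1, -3, 0, -1, 2, 0, 0, -4, -3, -1, 2, 3, 0]]

/-- A lattice vector with no flipped image. -/
def flipWit : List ℤ := [4, 4, 0, 0, 0, 0, 0, 0, 0, 0, 0, 0, 0, 0, 0, 0, 0, 0, 0, 0, 0, 0, 0, 0]

/-- A coordinate at which the flipped image is not integral. -/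
def flipPos : ℕ := 0

end CfsgLib.Leech.U35
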