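import Cfsg.Agent.Leech.U35.Iso

/-!
The graph of the isomorphism with `PSU 3 5`.
-/

set_option autoImplicit false

namespace CfsgLib.Leech.U35

open Cfsg CfsgLib.Mathieu TreeData CfsgLib.UnitOrders
open scoped Matrix

theorem eq_top_of_large {G : Type*} [Group G] [Finite G] [IsSimpleGroup G] (hG : Nat.card G = 126000)
    (K : Subgroup G) (hK : 8400 < Nat.card K) : K = ⊤ := by
  by_contra hne
  have hci := K.card_mul_index
  rw [hG] at hci
  have hm : K.index ≤ 14 := by
    by_contra hm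
    have : Nat.card K * 15 ≤ Nat.card K * K.index := Nat.mul_le_mul_left _ (by omega)
    omega
  have hker : (MulAction.toPermHom G (G ⧸ K)).ker = ⊥ :=
    (IsSimpleGroup.eq_bot_or_eq_top_of_normal _ inferInstance).resolve_right fun e =>
      hne (top_le_iff.1 (e ▸ (Subgroup.normalCore_eq_ker K ▸ Subgroup.normalCore_le K :
        (MulAction.toPermHom G (G ⧸ K)).ker ≤ K)))
  have hdvd := Subgroup.card_dvd_of_injective _ ((MonoidHom.ker_eq_bot_iff _).1 hker)
  rw [hG, Nat.card_perm, show Nat.card (G ⧸ K) = K.index from rfl] at hdvd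
  have h0 : K.index ≠ 0 := Subgroup.index_ne_zero_of_finite
  exact (by decide +kernel : ∀ m < 15, ¬ 126000 ∣ Nat.factorial m) K.index (by omega) hdvd

theorem sub_fix_eq {g : Co0} {v : leechLattice} {l : List ℤ} {m : List Mv} (hl : (v : GolayPt → ℤ) = vec l)
    (hg : ∀ (a : List ℤ) (ha : vec a ∈ leechLattice),
      ((g • (⟨vec a, ha⟩ : leechLattice) : leechLattice) : GolayPt → ℤ) = vec (runMoves m a))
    {F : List (List ℤ)} (hF : F.all (fun f => runMoves m f == f) = true) (hmem : l ∈ F) : g • v = v :=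
  smul_eq_of_vec hl hg (by simpa using List.all_eq_true.1 hF l hmem)

theorem pointGroup_gen (m : List Mv) (hm : m ∈ gens) :
    ∃ g ∈ pointGroup, ∀ (a : List ℤ) (ha : vec a ∈ leechLattice),
      ((g • (⟨vec a, ha⟩ : leechLattice) : leechLattice) : GolayPt → ℤ) = vec (runMoves m a) := by
  have h := tree252
  simp only [treeOK, gensOK, Bool.and_eq_true] at h
  have hh := List.all_eq_true.1 h.1.1.1 m hm
  simp only [Bool.and_eq_true] at hh
  obtain ⟨g, -, hg⟩ := runMoves_spec m hh.1
  exact ⟨g, mem_pointGroup.2 ⟨sub_fix_eq (l := hsFix[0]) rfl hg hh.2 (by simp [fix3]),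
    sub_fix_eq (l := hsFix[1]) rfl hg hh.2 (by simp [fix3]),
    sub_fix_eq (l := pt352) rfl hg hh.2 (by simp [fix3])⟩, hg⟩

variable {F : Type*} [Field F]

/-- `v` lies on the line of point `b`. -/
def OnLine (r : F) (v : Fin 3 → F) (b : Fin 126) : Prop := ∃ k : F, v = k • cv r (pointL b)

/-- A member of `Co0` and one of `SU 3 5` carry pairs and points alike. -/
def Compat (r : F) (g : Co0) (A : Cfsg.SU 3 F 5) : Prop :=
  g ∈ pointGroup ∧ ∀ a : Fin 126, ∃ b, InPair (g • pairV a) b ∧ OnLine r (suMat A *ᵥ cv r (pointL a)) b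

theorem Compat.one (r : F) : Compat r 1 (1 : Cfsg.SU 3 F 5) :=
  ⟨one_mem _, fun a => ⟨a, by rw [one_smul]; exact Or.inl rfl, 1, by
    rw [show suMat (1 : Cfsg.SU 3 F 5) = 1 from rfl, Matrix.one_mulVec, one_smul]⟩⟩

theorem Compat.mul {r : F} {g h : Co0} {A B : Cfsg.SU 3 F 5} (h1 : Compat r g A) (h2 : Compat r h B) :
    Compat r (g * h) (A * B) := by
  refine ⟨mul_mem h1.1 h2.1, fun a => ?_⟩
  obtain ⟨b, hb, k, hk⟩ := h2.2 a
  obtain ⟨c, hc, l, hl⟩ := h1.2 b
  refine ⟨c, ?_, k * l, ?_⟩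
  · rw [mul_smul]; exact inPair_smul h1.1 hb hc
  · rw [suMat_mul, ← Matrix.mulVec_mulVec, hk, Matrix.mulVec_smul, hl, smul_smul]

variable [Fintype F] [CharP F 5] {r : F}

/-- The pairs `(g, A)` carrying pairs and points alike. -/
def graph (r : F) : Subgroup (Co0 × Cfsg.SU 3 F 5) :=
  haveI := co0_finite
  { carrier := {x | Compat r x.1 x.2}
    one_mem' := Compat.one r
    mul_mem' := fun ha hb => Compat.mul ha hb
    inv_mem' := fun {x} hx => by
      have hp : ∀ n : ℕ, Compat r (x ^ n).1 (x ^ n).2 := fun n => by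
        induction n with
        | zero => exact Compat.one r
        | succ n ih => rw [pow_succ]; exact Compat.mul ih hx
      have hpos := orderOf_pos x
      have : x⁻¹ = x ^ (orderOf x - 1) := inv_eq_of_mul_eq_one_left (by
        rw [← pow_succ, Nat.sub_add_cancel hpos, pow_orderOf_eq_one])
      rw [Set.mem_ofPred_eq, this]
      exact hp _ }

theorem mem_graph {x : Co0 × Cfsg.SU 3 F 5} : x ∈ graph r ↔ Compat r x.1 x.2 := Iff.rfl

theorem point_ne_zero (hr : r * r = 2) (a : Fin 126) : cv r (pointL a) ≠ 0 := by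
  have h := List.all_eq_true.1 points_ok a.1 (List.mem_range.2 a.2)
  simp only [List.any_eq_true, List.mem_range, Bool.and_eq_true, decide_eq_true_eq, bne_iff_ne] at h
  obtain ⟨i, hi, h25, hne⟩ := h
  exact fun e => val_ne_zero hr h25 hne (congrFun e ⟨i, hi⟩)

theorem addc_lt (x y : ℕ) : addc x y < 25 := by unfold addc; omega

theorem point_unique (hr : r * r = 2) {a b : Fin 126} {k : F}
    (h : cv r (pointL a) = k • cv r (pointL b)) : a = b := by
  by_contra hne
  have hp := List.all_eq_true.1 (List.all_eq_true.1 points_distinct a.1 (List.mem_range.2 a.2))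
    b.1 (List.mem_range.2 b.2)
  simp only [Bool.or_eq_true, beq_iff_eq, Fin.val_inj, hne, false_or, List.any_eq_true, List.mem_range,
    bne_iff_ne] at hp
  obtain ⟨i, hi, j, hj, hs⟩ := hp
  apply val_ne_zero hr (addc_lt _ _) hs
  rw [val_addc, val_four, val_mulc hr, val_mulc hr]
  have e1 : val r (ent (pointL a) i) = k * val r (ent (pointL b) i) := congrFun h ⟨i, hi⟩
  have e2 : val r (ent (pointL a) j) = k * val r (ent (pointL b) j) := congrFun h ⟨j, hj⟩
  rw [e1, e2]; ring

theorem center_of_lines (hr : r * r = 2) {A : Cfsg.SU 3 F 5}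
    (h : ∀ a : Fin 126, OnLine r (suMat A *ᵥ cv r (pointL a)) a) : A ∈ Subgroup.center (Cfsg.SU 3 F 5) := by
  obtain ⟨hF1, hF2, hF3⟩ := frame_ok
  simp only [List.all_eq_true, List.mem_range, beq_iff_eq, Bool.and_eq_true, decide_eq_true_eq,
    bne_iff_ne] at hF1 hF2 hF3
  obtain ⟨l0, e0⟩ : OnLine r (suMat A *ᵥ cv r (pointL 0)) 0 := h 0
  obtain ⟨l1, e1⟩ : OnLine r (suMat A *ᵥ cv r (pointL 1)) 1 := h 1
  obtain ⟨l2, e2⟩ : OnLine r (suMat A *ᵥ cv r (pointL 2)) 2 := h 2
  obtain ⟨l3, e3⟩ : OnLine r (suMat A *ᵥ cv r (pointL 3)) 3 := h 3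
  set P : ℕ → (Fin 3 → F) := fun t => cv r (pointL t) with hP
  set K : ℕ → F := fun t => val r (frameCoef.getD t 0) with hK
  set Q : ℕ → ℕ → F := fun t i => val r (ent (frameInv.getD i []) t) with hQ
  change suMat A *ᵥ P 0 = l0 • P 0 at e0
  change suMat A *ᵥ P 1 = l1 • P 1 at e1
  change suMat A *ᵥ P 2 = l2 • P 2 at e2
  change suMat A *ᵥ P 3 = l3 • P 3 at e3
  have hsum : P 3 = K 0 • P 0 + K 1 • P 1 + K 2 • P 2 := by
    funext i
    have := congrArg (val r) (hF1 i i.2)
    simp only [val_addc, val_mulc hr] at this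
    simpa [hP, hK, cv] using this.symm
  have hdual : ∀ t < 3, ∀ u < 3, Q t 0 * P u 0 + Q t 1 * P u 1 + Q t 2 * P u 2 =
      if t = u then 1 else 0 := by
    intro t ht u hu
    have := congrArg (val r) (hF2 t ht u hu)
    simp only [val_addc, val_mulc hr] at this
    simp only [hP, hQ, cv, Fin.val_zero, Fin.val_one, Fin.val_two]
    rw [this]
    split <;> simp_all [val_one, val_zero]
  have key : ∀ i, K 0 * l0 * P 0 i + K 1 * l1 * P 1 i + K 2 * l2 * P 2 i =
      l3 * (K 0 * P 0 i + K 1 * P 1 i + K 2 * P 2 i) := by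
    intro i
    have := congrFun e3 i
    rw [hsum, Matrix.mulVec_add, Matrix.mulVec_add, Matrix.mulVec_smul, Matrix.mulVec_smul,
      Matrix.mulVec_smul, e0, e1, e2] at this
    simp only [Pi.add_apply, Pi.smul_apply, smul_eq_mul] at this
    linear_combination this
  have hK0 : ∀ t < 3, K t ≠ 0 := fun t ht => val_ne_zero hr (hF3 t ht).1 (hF3 t ht).2
  have hl : ∀ t < 3, ∀ w : ℕ → F, (∀ i, w 0 * P 0 i + w 1 * P 1 i + w 2 * P 2 i = 0) → w t = 0 := by
    intro t ht w hw
    have d0 := hdual t ht 0 (by norm_num)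
    have d1 := hdual t ht 1 (by norm_num)
    have d2 := hdual t ht 2 (by norm_num)
    have : w 0 * (if t = 0 then 1 else 0) + w 1 * (if t = 1 then 1 else 0) +
        w 2 * (if t = 2 then 1 else 0) = 0 := by
      linear_combination Q t 0 * hw 0 + Q t 1 * hw 1 + Q t 2 * hw 2 - w 0 * d0 - w 1 * d1 - w 2 * d2
    interval_cases t <;> simpa using this
  let w : ℕ → F := fun t => K t * ((if t = 0 then l0 else if t = 1 then l1 else l2) - l3)
  have hw : ∀ i, w 0 * P 0 i + w 1 * P 1 i + w 2 * P 2 i = 0 := fun i => by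
    simp only [w]; norm_num
    linear_combination key i
  have q0 : l0 = l3 := sub_eq_zero.1 ((mul_eq_zero.1 (hl 0 (by norm_num) w hw)).resolve_left (hK0 0 (by norm_num)))
  have q1 : l1 = l3 := sub_eq_zero.1 ((mul_eq_zero.1 (hl 1 (by norm_num) w hw)).resolve_left (hK0 1 (by norm_num)))
  have q2 : l2 = l3 := sub_eq_zero.1 ((mul_eq_zero.1 (hl 2 (by norm_num) w hw)).resolve_left (hK0 2 (by norm_num)))
  refine mem_center_of_scalar (c := l3) ?_
  set M := suMat A - l3 • (1 : Matrix (Fin 3) (Fin 3) F) with hM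
  have hk : ∀ t < 3, M *ᵥ P t = 0 := by
    intro t ht
    rw [hM, Matrix.sub_mulVec, Matrix.smul_mulVec, Matrix.one_mulVec]
    interval_cases t <;> simp [e0, e1, e2, q0, q1, q2]
  let E : Matrix (Fin 3) (Fin 3) F := Matrix.of fun i t => P t.val i
  let R : Matrix (Fin 3) (Fin 3) F := Matrix.of fun t i => Q t.val i.val
  have hRE : R * E = 1 := Matrix.ext fun t u => by
    rw [Matrix.mul_apply, Fin.sum_univ_three, Matrix.one_apply]
    simp only [R, E, Matrix.of_apply, Fin.val_zero, Fin.val_one, Fin.val_two]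
    rw [hdual t t.2 u u.2]
    simp [Fin.ext_iff]
  have hME : M * E = 0 := Matrix.ext fun i t => by
    have := congrFun (hk t t.2) i
    simpa [Matrix.mul_apply, Matrix.mulVec, dotProduct, E] using this
  have : M = 0 := by
    have h2 : E * R = 1 := mul_eq_one_comm.1 hRE
    rw [← mul_one M, ← h2, ← mul_assoc, hME, zero_mul]
  exact sub_eq_zero.1 this

/-- The first projection of the graph. -/
def projG (r : F) : graph r →* Co0 := (MonoidHom.fst _ _).comp (graph r).subtype

/-- The projection of the graph to `PSU 3 5`. -/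
def projP (r : F) : graph r →* Cfsg.PSU 3 F 5 :=
  ((QuotientGroup.mk' _).comp (MonoidHom.snd _ _)).comp (graph r).subtype

theorem ker_eq (hr : r * r = 2) (hσ : ∃ σ : F →+* F, ∀ x, σ x = x ^ 5) (hF : Fintype.card F = 25) :
    (projG (F := F) r).ker = (projP r).ker := by
  obtain ⟨σ, hσ⟩ := hσ
  ext ⟨⟨g, A⟩, hgA⟩
  have hc : Compat r g A := hgA
  simp only [MonoidHom.mem_ker, projG, projP, MonoidHom.comp_apply, Subgroup.coe_subtype,
    MonoidHom.coe_fst, MonoidHom.coe_snd, QuotientGroup.mk'_apply, QuotientGroup.eq_one_iff]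
  constructor
  · intro hg
    refine center_of_lines hr fun a => ?_
    obtain ⟨b, hb, hl⟩ := hc.2 a
    rw [hg, one_smul] at hb
    rw [inPair_unique (Or.inl rfl : InPair (pairV a) a) hb] at hl ⊢
    exact hl
  · intro hA
    obtain ⟨c, hcA⟩ := scalar_of_mem_center hσ (by rw [hF]; norm_num) le_rfl hA
    refine eq_one_of_pairs hc.1 fun a => ?_
    obtain ⟨b, hb, k, hk⟩ := hc.2 a
    rw [hcA, Matrix.smul_mulVec, Matrix.one_mulVec] at hk
    have hc0 : c ≠ 0 := by
      intro e
      have := (A : Matrix.SpecialLinearGroup (Fin 3) F).2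
      rw [show ((A : Matrix.SpecialLinearGroup (Fin 3) F) : Matrix (Fin 3) (Fin 3) F) = suMat A from rfl,
        hcA, e, zero_smul, Matrix.det_zero] at this
      exact zero_ne_one this
    have hab : a = b := point_unique hr (k := c⁻¹ * k) (by
      rw [mul_smul, ← hk, smul_smul, inv_mul_cancel₀ hc0, one_smul])
    rwa [← hab] at hb

theorem compat_of_check (hr : r * r = 2) (m : List Mv) (p A : List ℕ)
    (hc : compatB m p A = true) (hd : detB A = true) (ho : orthB A = true) (hok : m.all Mv.ok = true)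
    {g : Co0} (hg : g ∈ pointGroup) (hact : ∀ (a : List ℤ) (ha : vec a ∈ leechLattice),
      ((g • (⟨vec a, ha⟩ : leechLattice) : leechLattice) : GolayPt → ℤ) = vec (runMoves m a)) :
    Compat r g (suOf hr A hd ho) := by
  refine ⟨hg, fun a => ?_⟩
  have h := List.all_eq_true.1 hc a.1 (List.mem_range.2 a.2)
  simp only [Bool.and_eq_true, decide_eq_true_eq, Bool.or_eq_true, beq_iff_eq] at h
  obtain ⟨⟨hb, hy⟩, hp⟩ := h
  refine ⟨⟨_, hb⟩, ?_, ?_⟩
  · have hm := (pairL_facts a).1
    have h32 : sqNorm (vec (pairL a)) ≤ 80 :=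
      (by decide +kernel : ∀ b < 126, sqNorm (vec (pairL b)) ≤ 80) a.1 a.2
    have hpd := dec_penc (pairL_facts a).2 hm h32
    obtain ⟨e, -⟩ := prun_spec m hok (penc (pairL a)) (by rw [hpd]; exact hm) (by rw [hpd]; exact h32)
      (by rw [hpd])
    have hdec : ∀ l : List ℤ, l.length = 24 → vec l ∈ leechLattice → sqNorm (vec l) ≤ 80 →
        m.foldl pact (penc (pairL a)) = penc l → runMoves m (pairL a) = l := by
      intro l h1 h2 h3 h4
      rw [h4, dec_penc h1 h2 h3, hpd] at e
      exact e.symm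
    have eg : ((g • pairV a : leechLattice) : GolayPt → ℤ) = vec (runMoves m (pairL a)) := hact _ hm
    rcases hy with hy | hy
    · refine Or.inl (Subtype.ext ?_)
      rw [eg, hdec _ (pairL_facts ⟨_, hb⟩).2 (pairL_facts ⟨_, hb⟩).1
        ((by decide +kernel : ∀ b < 126, sqNorm (vec (pairL b)) ≤ 80) _ hb) hy]
      rfl
    · refine Or.inr (Subtype.ext ?_)
      have hmm : vec (mate (pairL (p.getD a.1 0))) ∈ leechLattice := by
        rw [vec_mate_pair ⟨_, hb⟩]; exact (bD - pairV ⟨_, hb⟩ : leechLattice).2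
      rw [eg, hdec _ (mate_length (pairL_facts ⟨_, hb⟩).2) hmm
        ((by decide +kernel : ∀ b < 126, sqNorm (vec (mate (pairL b))) ≤ 80) _ hb) hy,
        vec_mate_pair ⟨_, hb⟩]
  · rw [show suMat (suOf hr A hd ho) = cm r A from rfl, cm_mulVec hr]
    exact smul_of_propB hr hp (point_ne_zero hr ⟨_, hb⟩)

theorem word_mem {N : Subgroup Co0} (h : GensIn N gens) : ∀ ks : List ℕ, (∀ k ∈ ks, k < gens.length) →
    ∃ g ∈ N, ∀ (a : List ℤ) (ha : vec a ∈ leechLattice),
      ((g • (⟨vec a, ha⟩ : leechLattice) : leechLattice) : GolayPt → ℤ) =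
        vec (runMoves (ks.flatMap fun k => gens.getD k []) a)
  | [], _ => ⟨1, one_mem _, fun a ha => by rw [one_smul]; rfl⟩
  | k :: ks, hk => by
    have hk0 := hk k (by simp)
    obtain ⟨-, g₁, hg₁, hact₁⟩ := h _ (List.getElem_mem hk0)
    obtain ⟨g₂, hg₂, hact₂⟩ := word_mem h ks fun j hj => hk j (List.mem_cons_of_mem _ hj)
    refine ⟨g₂ * g₁, mul_mem hg₂ hg₁, fun a ha => ?_⟩
    have hm : vec (runMoves gens[k] a) ∈ leechLattice := hact₁ a ha ▸ (g₁ • (⟨vec a, ha⟩ : leechLattice)).2
    rw [mul_smul, show g₁ • (⟨vec a, ha⟩ : leechLattice) = ⟨_, hm⟩ from Subtype.ext (hact₁ a ha),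
      hact₂ _ hm, List.flatMap_cons, List.getD_eq_getElem _ _ hk0]
    simp only [runMoves, List.foldl_append]

theorem large_range (hr : r * r = 2) : 8400 < Nat.card (projG (F := F) r).range := by
  set N := (projG (F := F) r).range with hN
  have hS := tree252
  simp only [treeOK, gensOK, Bool.and_eq_true] at hS
  have hgens : GensIn N gens := by
    intro m hm
    have hok : m.all Mv.ok = true := by
      have := List.all_eq_true.1 hS.1.1.1 m hm
      simp only [Bool.and_eq_true] at this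
      exact this.1
    obtain ⟨g, hg, hact⟩ := pointGroup_gen m hm
    refine ⟨hok, g, ?_, hact⟩
    obtain ⟨h0, h1⟩ := gens_compat
    obtain ⟨d0, o0, d1, o1⟩ := mats_ok
    have : m = gens[0] ∨ m = gens[1] := by
      rcases List.mem_iff_getElem.1 hm with ⟨i, hi, rfl⟩
      have : i < 2 := hi
      interval_cases i
      · exact Or.inl rfl
      · exact Or.inr rfl
    rcases this with rfl | rfl
    · exact ⟨⟨(g, suOf hr _ d0 o0), compat_of_check hr _ _ _ h0 d0 o0 hok hg hact⟩, rfl⟩
    · exact ⟨⟨(g, suOf hr _ d1 o1), compat_of_check hr _ _ _ h1 d1 o1 hok hg hact⟩, rfl⟩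
  have hn : 252 ≤ (orb N (pairV 0)).ncard := le_ncard_orb tree252 hgens (pairV 0) rfl
  set S := N ⊓ MulAction.stabilizer Co0 (pairV 0) with hSdef
  have hstab : GensIn S stabGens := by
    have h := tree40
    simp only [treeOK, gensOK, Bool.and_eq_true] at h
    intro m hm
    have hh := List.all_eq_true.1 h.1.1.1 m hm
    simp only [Bool.and_eq_true] at hh
    refine ⟨hh.1, ?_⟩
    obtain ⟨ks, hks, rfl⟩ := List.mem_map.1 hm
    obtain ⟨g, hgN, hact⟩ := word_mem hgens ks
      ((by decide +kernel : ∀ w ∈ stabWords, ∀ k ∈ w, k < gens.length) ks hks)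
    refine ⟨g, ⟨hgN, ?_⟩, hact⟩
    exact sub_fix_eq (l := pairL 0) rfl hact hh.2 (by simp)
  have hm : 40 ≤ (orb S (pairV ⟨second, by decide⟩)).ncard := le_ncard_orb tree40 hstab _ rfl
  have c1 := card_eq_orb_mul N (pairV 0)
  have c2 := card_eq_orb_mul S (pairV ⟨second, by decide⟩)
  have h3 : 0 < Nat.card ↥(S ⊓ MulAction.stabilizer Co0 (pairV ⟨second, by decide⟩)) := by
    have := co0_finite
    exact Nat.card_pos
  have h4 : 40 ≤ Nat.card S := by rw [c2]; exact hm.trans (Nat.le_mul_of_pos_right _ h3)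
  rw [c1]
  calc 8400 < 252 * 40 := by norm_num
    _ ≤ _ := Nat.mul_le_mul hn h4

theorem card_psu35 {F : Type*} [Field F] [Fintype F] (hF : Fintype.card F = 25) :
    Nat.card (Cfsg.PSU 3 F 5) = 126000 := by
  have h := Cfsg.Agent.S0280.result (F := F) (q := 5) (by rw [hF]; norm_num) 3 (by norm_num)
  norm_num [Finset.prod_range_succ, Nat.even_iff] at h
  omega

theorem pointGroup_iso {F : Type} [Field F] [Fintype F] (hF : Fintype.card F = 25) :
    Nonempty (pointGroup ≃* Cfsg.PSU 3 F 5) := by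
  have := co0_finite
  haveI : Fact (Nat.Prime 5) := ⟨by norm_num⟩
  haveI : CharP F 5 := by
    obtain ⟨p, hp⟩ := CharP.exists F
    haveI := hp
    obtain ⟨n, hprime, hn⟩ := FiniteField.card F p
    have : p = 5 := by
      have : p ∣ 5 ^ 2 := by rw [show (5 : ℕ) ^ 2 = Fintype.card F by rw [hF]; rfl, hn]; exact dvd_pow_self p n.2.ne'
      exact (Nat.prime_dvd_prime_iff_eq hprime (by norm_num)).1 (hprime.dvd_of_dvd_pow this)
    exact this ▸ hp
  obtain ⟨r, hr⟩ : IsSquare (2 : F) := by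
    rw [FiniteField.isSquare_iff (by rw [ringChar.eq F 5]; norm_num) (by
      intro e
      have : ((2 : ℕ) : F) = 0 := by exact_mod_cast e
      rw [CharP.cast_eq_zero_iff F 5] at this
      norm_num at this), hF]
    have h12 : ((4096 : ℕ) : F) = ((1 : ℕ) : F) := (CharP.natCast_eq_natCast F 5).2 (by decide)
    push_cast at h12
    norm_num
    exact h12
  have hr' : r * r = 2 := hr.symm
  haveI := Cfsg.Agent.S0283.result (F := F) (q := 5) (by rw [hF]; norm_num) 3 le_rfl (by norm_num)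
  have hker := ker_eq (F := F) hr' ⟨frobenius F 5, frobenius_def (p := 5)⟩ hF
  let e : (projG (F := F) r).range ≃* (projP (F := F) r).range :=
    (QuotientGroup.quotientKerEquivRange _).symm.trans
      ((QuotientGroup.quotientMulEquivOfEq hker).trans (QuotientGroup.quotientKerEquivRange _))
  have hlarge := large_range (F := F) hr'
  have hsurj : (projP (F := F) r).range = ⊤ := by
    refine eq_top_of_large (card_psu35 hF) _ ?_
    rw [← Nat.card_congr e.toEquiv]; exact hlarge
  have hle : (projG (F := F) r).range ≤ pointGroup := by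
    rintro g ⟨⟨x, hx⟩, rfl⟩
    exact hx.1
  have hcard : Nat.card (projG (F := F) r).range = 126000 := by
    rw [Nat.card_congr e.toEquiv, hsurj, Subgroup.card_top, card_psu35 hF]
  have heq : (projG (F := F) r).range = pointGroup :=
    Subgroup.eq_of_le_of_card_ge hle (by rw [hcard, card_pointGroup])
  exact ⟨(MulEquiv.subgroupCongr heq.symm).trans (e.trans ((MulEquiv.subgroupCongr hsurj).trans Subgroup.topEquiv))⟩

end CfsgLib.Leech.U35
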