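import Cfsg.Agent.Leech.U35.Set352
import Cfsg.Agent.UnitOrders.Witness
import Cfsg.Agent.S0280
import Cfsg.Agent.S0283

/-!
The stabiliser of a point among the 352 is `PSU 3 5`.

Pairs `{y, bD - y}` of minimal vectors correspond to isotropic points of the Hermitian plane; the pairs
`(g, A)` respecting the correspondence form the graph of an isomorphism.
-/

set_option autoImplicit false

namespace CfsgLib.Leech.U35

open Cfsg CfsgLib.Mathieu TreeData
open scoped Matrix

theorem pairL_facts (a : Fin 126) : vec (pairL a) ∈ leechLattice ∧ (pairL a).length = 24 := by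
  have h := List.all_eq_true.1 pairs_ok a.1 (List.mem_range.2 a.2)
  simp only [Bool.and_eq_true, beq_iff_eq] at h
  exact ⟨leechB_iff.mp h.1.1, h.1.2⟩

/-- The vector of a pair. -/
def pairV (a : Fin 126) : leechLattice := ⟨vec (pairL a), (pairL_facts a).1⟩

theorem vec_mate {y : List ℤ} (hy : y.length = 24) : vec (mate y) = baseD - vec y := by
  funext p
  show (mate y).getD (idx p) 0 = baseD p - y.getD (idx p) 0
  have h1 : idx p < hsFix[0].length := by
    rw [show (hsFix[0]).length = 24 from rfl]; exact idx_lt p
  have h2 : idx p < y.length := by rw [hy]; exact idx_lt p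
  have e : baseD p = (hsFix[0]).getD (idx p) 0 := rfl
  simp [e, mate, List.getD_eq_getElem?_getD, List.getElem?_zipWith, List.getElem?_eq_getElem h1,
    List.getElem?_eq_getElem h2]

theorem vec_mate_pair (a : Fin 126) :
    vec (mate (pairL a)) = ((bD - pairV a : leechLattice) : GolayPt → ℤ) := by
  rw [vec_mate (pairL_facts a).2]; rfl

theorem mate_length {y : List ℤ} (hy : y.length = 24) : (mate y).length = 24 := by
  simp [mate, hy, show (hsFix[0]).length = 24 from rfl]

theorem dotL_vec {l l' : List ℤ} (h : l.length = 24) (h' : l'.length = 24) :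
    dotL l l' = dotInt (vec l) (vec l') := by
  rw [dotL_range l l' (h.trans h'.symm), h, dotInt, sum_univ_list]
  exact congrArg List.sum (List.map_congr_left fun i hi => by
    rw [vec_getD, vec_getD, idx_pt (List.mem_range.1 hi)])

/-- `z` lies in the pair of `b`. -/
def InPair (z : leechLattice) (b : Fin 126) : Prop := z = pairV b ∨ z = bD - pairV b

theorem inPair_sub {z : leechLattice} {b : Fin 126} (h : InPair z b) : InPair (bD - z) b := by
  rcases h with rfl | rfl
  · exact Or.inr rfl
  · exact Or.inl (sub_sub_cancel _ _)

theorem inPair_unique {z : leechLattice} {a b : Fin 126} (ha : InPair z a) (hb : InPair z b) : a = b := by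
  by_contra hne
  have h := List.all_eq_true.1 (List.all_eq_true.1 pairs_distinct a.1 (List.mem_range.2 a.2))
    b.1 (List.mem_range.2 b.2)
  simp only [Bool.or_eq_true, beq_iff_eq, Fin.val_inj, hne, false_or, Bool.and_eq_true, bne_iff_ne] at h
  have la := (pairL_facts a).2
  have lb := (pairL_facts b).2
  rcases ha with rfl | rfl <;> rcases hb with e | e
  · exact h.1 ((toList_vec la).symm.trans (congrArg toList (congrArg Subtype.val e) |>.trans (toList_vec lb)))
  · refine h.2 ((toList_vec la).symm.trans ?_)
    rw [← toList_vec (mate_length lb), vec_mate_pair]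
    exact congrArg toList (congrArg Subtype.val e)
  · refine h.2 ((toList_vec la).symm.trans ?_)
    rw [← toList_vec (mate_length lb), vec_mate_pair]
    exact congrArg toList (congrArg Subtype.val (show pairV a = bD - pairV b by rw [← e, sub_sub_cancel]))
  · exact h.1 ((toList_vec la).symm.trans
      (congrArg toList (congrArg Subtype.val (sub_right_injective e)) |>.trans (toList_vec lb)))

theorem inPair_smul {g : Co0} (hg : g ∈ pointGroup) {z : leechLattice} {a b : Fin 126}
    (h : InPair z a) (hb : InPair (g • pairV a) b) : InPair (g • z) b := by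
  rcases h with rfl | rfl
  · exact hb
  · rw [co0_sub, (mem_pointGroup.1 hg).1]; exact inPair_sub hb

/-- Every member of the pair group either fixes all pair vectors or flips all of them; it is trivial. -/
theorem eq_one_of_pairs {g : Co0} (hg : g ∈ pointGroup) (h : ∀ a, InPair (g • pairV a) a) : g = 1 := by
  obtain ⟨hD, hW, hT⟩ := mem_pointGroup.1 hg
  have hd : ∀ a b : leechLattice, dotInt ((g • a : leechLattice) : GolayPt → ℤ) ((g • b : leechLattice) : GolayPt → ℤ) =
      dotInt (a : GolayPt → ℤ) (b : GolayPt → ℤ) := co0_dot g
  have hu : ∀ a : Fin 126, g • pairV 0 = pairV 0 → g • pairV a = pairV a := by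
    intro a h0
    rcases h a with e | e
    · exact e
    · exfalso
      have := hd (pairV 0) (pairV a)
      rw [h0, e] at this
      have hc := List.all_eq_true.1 flip_uniform a.1 (List.mem_range.2 a.2)
      simp only [Bool.and_eq_true, bne_iff_ne] at hc
      apply hc.1
      rw [dotL_vec (show (pairL 0).length = 24 from (pairL_facts 0).2) (pairL_facts a).2,
        dotL_vec (show (pairL 0).length = 24 from (pairL_facts 0).2) (mate_length (pairL_facts a).2), vec_mate_pair]
      exact this.symm
  have hf : ∀ a : Fin 126, g • pairV 0 = bD - pairV 0 → g • pairV a = bD - pairV a := by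
    intro a h0
    rcases h a with e | e
    · exfalso
      have := hd (pairV 0) (pairV a)
      rw [h0, e] at this
      have hc := List.all_eq_true.1 flip_uniform a.1 (List.mem_range.2 a.2)
      simp only [Bool.and_eq_true, bne_iff_ne] at hc
      apply hc.2
      rw [dotL_vec (show (pairL 0).length = 24 from (pairL_facts 0).2) (pairL_facts a).2,
        dotL_vec (mate_length (show (pairL 0).length = 24 from (pairL_facts 0).2)) (pairL_facts a).2,
        show vec (mate (pairL 0)) = _ from vec_mate_pair 0]
      exact this.symm
    · exact e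
  have hlen : ∀ k < 24, (basisB.getD k []).length = 24 ∧ (basisF.getD k []).length = 24 := by decide +kernel
  have hsel : ∀ k < 21, basisSel.getD k 0 < 126 := by decide +kernel
  have hinv : ∀ x : GolayPt → ℤ, ∀ p : GolayPt, 40 * x p =
      ((List.range 24).map fun k =>
        (basisInv.getD (idx p) []).getD k 0 * dotInt (vec (basisB.getD k [])) x).sum := by
    intro x p
    have hB := basis_ok
    simp only [List.all_eq_true, List.mem_range, beq_iff_eq] at hB
    have key : ∀ q : GolayPt, ((List.range 24).map fun k =>
        (basisInv.getD (idx p) []).getD k 0 * (basisB.getD k []).getD (idx q) 0).sum =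
        if p = q then 40 else 0 := by
      intro q
      rw [hB (idx p) (idx_lt p) (idx q) (idx_lt q)]
      by_cases hpq : p = q
      · simp [hpq]
      · rw [if_neg hpq, if_neg fun e => hpq ((pt_idx p).symm.trans ((congrArg pt e).trans (pt_idx q)))]
    calc 40 * x p = ∑ q, (if p = q then 40 else 0) * x q := by simp
      _ = ∑ q, ((List.range 24).map fun k =>
          (basisInv.getD (idx p) []).getD k 0 * (basisB.getD k []).getD (idx q) 0).sum * x q :=
        Finset.sum_congr rfl fun q _ => by rw [key]
      _ = ∑ q, ∑ k ∈ Finset.range 24,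
          (basisInv.getD (idx p) []).getD k 0 * (vec (basisB.getD k []) q * x q) :=
        Finset.sum_congr rfl fun q _ => by
          rw [← List.sum_toFinset _ List.nodup_range, List.toFinset_range, Finset.sum_mul]
          exact Finset.sum_congr rfl fun k _ => mul_assoc _ _ _
      _ = _ := by
        rw [Finset.sum_comm, ← List.sum_toFinset _ List.nodup_range, List.toFinset_range]
        exact Finset.sum_congr rfl fun k _ => by rw [dotInt, Finset.mul_sum]
  -- the images of the basis
  have himg : ∀ (L : List (List ℤ)) (f : Fin 126 → leechLattice),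
      L = fix3 ++ basisSel.map (fun a => if h : a < 126 then toList (f ⟨a, h⟩ : GolayPt → ℤ) else []) →
      (∀ a, g • pairV a = f a) → ∀ k < 24, ∃ b c : leechLattice, g • b = c ∧
        (b : GolayPt → ℤ) = vec (basisB.getD k []) ∧ (c : GolayPt → ℤ) = vec (L.getD k []) := by
    intro L f hL hga k hk
    subst hL
    have eD : (bD : GolayPt → ℤ) = vec (fix3.getD 0 []) := rfl
    have eW : (bW : GolayPt → ℤ) = vec (fix3.getD 1 []) := rfl
    have eT : (bT : GolayPt → ℤ) = vec (fix3.getD 2 []) := rfl
    rcases Nat.lt_or_ge k 3 with hk3 | hk3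
    · interval_cases k
      · exact ⟨bD, bD, hD, eD, eD⟩
      · exact ⟨bW, bW, hW, eW, eW⟩
      · exact ⟨bT, bT, hT, eT, eT⟩
    · obtain ⟨j, rfl⟩ : ∃ j, k = 3 + j := ⟨k - 3, by omega⟩
      have hj : j < 21 := by omega
      have hs := hsel j hj
      refine ⟨pairV ⟨_, hs⟩, f ⟨_, hs⟩, hga _, ?_, ?_⟩
      · have hj' : j < basisSel.length := hj
        rw [basisB, List.getD_append_right _ _ _ _ (by simp [fix3]), show fix3.length = 3 from rfl,
          Nat.add_sub_cancel_left]
        simp [pairV, List.getD_eq_getElem?_getD, List.getElem?_map, List.getElem?_eq_getElem hj']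
      · have hj' : j < basisSel.length := hj
        rw [List.getD_append_right _ _ _ _ (by simp [fix3]), show fix3.length = 3 from rfl,
          Nat.add_sub_cancel_left]
        have hs' : basisSel[j] < 126 := by
          simpa [List.getD_eq_getElem?_getD, List.getElem?_eq_getElem hj'] using hs
        simp [List.getD_eq_getElem?_getD, List.getElem?_map, List.getElem?_eq_getElem hj', hs', vec_toList]
  rcases h 0 with h0 | h0
  · refine co0_ext fun x => ?_
    rw [one_smul]
    refine Subtype.ext (funext fun p => ?_)
    have e : ∀ k < 24, dotInt (vec (basisB.getD k [])) ((g • x : leechLattice) : GolayPt → ℤ) =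
        dotInt (vec (basisB.getD k [])) (x : GolayPt → ℤ) := by
      intro k hk
      obtain ⟨b, c, e, hb, hc⟩ := himg basisB pairV
        (congrArg (fix3 ++ ·) (List.map_congr_left fun a ha => by
          have : a < 126 := (by decide +kernel : ∀ a ∈ basisSel, a < 126) a ha
          simp [this, pairV, toList_vec (pairL_facts ⟨a, this⟩).2]))
        (fun a => hu a h0) k hk
      obtain rfl : b = c := Subtype.ext (hb.trans hc.symm)
      rw [← hb]
      conv_lhs => rw [← e]
      exact co0_dot g b x
    have h1 := hinv ((g • x : leechLattice) : GolayPt → ℤ) p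
    have h2 := hinv (x : GolayPt → ℤ) p
    have h3 : ((List.range 24).map fun k => (basisInv.getD (idx p) []).getD k 0 *
        dotInt (vec (basisB.getD k [])) ((g • x : leechLattice) : GolayPt → ℤ)).sum = _ :=
      congrArg List.sum (List.map_congr_left fun k hk => by rw [e k (List.mem_range.1 hk)])
    rw [h3, ← h2] at h1
    omega
  · exfalso
    have hp : idx (pt flipPos) = flipPos := idx_pt (by decide)
    set x : leechLattice := ⟨vec flipWit, leechB_iff.mp flip_wit.1⟩
    have h1 := hinv ((g⁻¹ • x : leechLattice) : GolayPt → ℤ) (pt flipPos)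
    rw [hp] at h1
    apply flip_wit.2
    have e : ((List.range 24).map fun k => (basisInv.getD flipPos []).getD k 0 *
        dotInt (vec (basisB.getD k [])) ((g⁻¹ • x : leechLattice) : GolayPt → ℤ)) =
      (List.range 24).map fun k => (basisInv.getD flipPos []).getD k 0 * dotL (basisF.getD k []) flipWit := by
      refine List.map_congr_left fun k hk => ?_
      obtain ⟨b, c, e, hb, hc⟩ := himg basisF (fun a => bD - pairV a)
        (congrArg (fix3 ++ ·) (List.map_congr_left fun a ha => by
          have : a < 126 := (by decide +kernel : ∀ a ∈ basisSel, a < 126) a ha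
          simp only [this, dite_true]
          rw [← toList_vec (mate_length (pairL_facts ⟨a, this⟩).2), vec_mate_pair]))
        (fun a => hf a h0) k (List.mem_range.1 hk)
      congr 1
      rw [dotL_vec (hlen k (List.mem_range.1 hk)).2 (by decide), ← hb, ← hc, ← e]
      conv_rhs => rw [show vec flipWit = ((g • g⁻¹ • x : leechLattice) : GolayPt → ℤ) by rw [smul_inv_smul]]
      exact (co0_dot g b _).symm
    rw [← e, ← h1]
    omega

end CfsgLib.Leech.U35
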