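import Cfsg.Agent.Leech.U35.Checks
import Cfsg.Agent.Leech.ConfigMain
import Cfsg.Agent.Leech.StabBottom

/-!
The 352 vectors of a pair of norm 48 vectors, and the order of a point stabiliser.
-/

set_option autoImplicit false

namespace CfsgLib.Leech.U35

open Cfsg CfsgLib.Mathieu TreeData

/-- The 352 points. -/
def set352 : Set (GolayPt → ℤ) := {x | x ∈ dotSet baseD 16 ∧ dotInt baseW x = -24}

theorem set352_finite : set352.Finite := (dotSet_finite _ _).subset fun _ h => h.1

theorem ncard_set352 : set352.ncard = 352 :=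
  (ncard_sep_tree co3m_tree (dotSet_finite _ _) ncard_dotSet_D16.le sub11178 _
    (fun x => dotInt baseW x = -24) fun c => by rw [is352B_iff, dotP_eq _ (by rfl)]; rfl).trans count352

theorem pt352_facts : leechB (vec pt352) = true ∧ sqNorm (vec pt352) = 32 ∧
    dotInt baseD (vec pt352) = 16 ∧ dotInt baseW (vec pt352) = -24 := by decide +kernel

/-- The base point among the 352. -/
def bT : leechLattice := ⟨vec pt352, leechB_iff.mp pt352_facts.1⟩

theorem sub352 (x : GolayPt → ℤ) (h : ReachL (hsFix.map vec) (vec pt352) x) : x ∈ set352 := by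
  obtain ⟨⟨hm, hn⟩, hd⟩ := reach_props
    (fun f hf => leechB_iff.mp ((by decide +kernel : ∀ f ∈ hsFix.map vec, leechB f = true) f hf)) h
  exact ⟨⟨hm, hn.trans pt352_facts.2.1,
    (hd baseD (by simp [baseD, hsFix, co3vFix])).trans pt352_facts.2.2.1⟩,
    (hd baseW (by simp [baseW, hsFix])).trans pt352_facts.2.2.2⟩

theorem to352 {x : leechLattice} (hx : (x : GolayPt → ℤ) ∈ set352) :
    ∃ g : Co0, g • bD = bD ∧ g • bW = bW ∧ g • x = bT := by
  obtain ⟨g, e, hF⟩ := exists_smul_of_reach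
    (reach_of_tree tree352 set352_finite ncard_set352.le sub352 hx)
    (show ReachL (hsFix.map vec) (vec pt352) (bT : GolayPt → ℤ) from ReachG.refl _ bT.2)
  exact ⟨g, hF bD (by simp [bD, baseD, hsFix, co3vFix]), hF bW (by simp [bW, baseW, hsFix]), e⟩

theorem transport352 {g : Co0} {v w : leechLattice} (gv : g • v = bD) (gw : g • w = bW)
    (x : leechLattice) :
    (sqNorm (x : GolayPt → ℤ) = 32 ∧ dotInt (v : GolayPt → ℤ) (x : GolayPt → ℤ) = 16 ∧
        dotInt (w : GolayPt → ℤ) (x : GolayPt → ℤ) = -24) ↔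
      ((g • x : leechLattice) : GolayPt → ℤ) ∈ set352 := by
  have e1 := smul_dot_eq gv x
  have e2 := smul_dot_eq gw x
  constructor
  · rintro ⟨h1, h2, h3⟩
    exact ⟨⟨(g • x).2, by rw [co0_norm]; exact h1, e1.trans h2⟩, e2.trans h3⟩
  · rintro ⟨⟨-, h1, h2⟩, h3⟩
    rw [co0_norm] at h1
    exact ⟨h1, e1.symm.trans h2, e2.symm.trans h3⟩

/-- The stabiliser of the pair `bD`, `bW`. -/
def hsGroup : Subgroup Co0 := MulAction.stabilizer Co0 bD ⊓ MulAction.stabilizer Co0 bW

/-- The stabiliser of `bD`, `bW` and `bT`. -/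
def pointGroup : Subgroup Co0 := hsGroup ⊓ MulAction.stabilizer Co0 bT

theorem mem_pointGroup {g : Co0} : g ∈ pointGroup ↔ g • bD = bD ∧ g • bW = bW ∧ g • bT = bT := by
  simp [pointGroup, hsGroup, Subgroup.mem_inf, MulAction.mem_stabilizer_iff, and_assoc]

theorem orb_hs {x : leechLattice} {S : Set (GolayPt → ℤ)}
    (hS : ∀ z : leechLattice, (z : GolayPt → ℤ) ∈ S ↔ ∃ g : Co0, g • bD = bD ∧ g • bW = bW ∧ g • z = x) :
    orb hsGroup x = {z : leechLattice | (z : GolayPt → ℤ) ∈ S} := by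
  ext z
  rw [Set.mem_ofPred_eq, hS]
  constructor
  · rintro ⟨g, ⟨h1, h2⟩, rfl⟩
    exact ⟨g⁻¹, by rw [inv_smul_eq_iff]; exact h1.symm, by rw [inv_smul_eq_iff]; exact h2.symm, inv_smul_smul g x⟩
  · rintro ⟨g, h1, h2, rfl⟩
    exact ⟨g⁻¹, inv_mem ⟨h1, h2⟩, inv_smul_smul g z⟩

theorem card_hsGroup : Nat.card hsGroup = 44352000 := by
  rw [card_eq_orb_mul hsGroup bA]
  have h100 : (orb hsGroup bA).ncard = 100 := by
    rw [orb_hs (S := set100) fun z => ⟨fun hz => to100 hz, ?_⟩,
      ncard_val (fun z => z ∈ set100) fun z hz => hz.1.1]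
    · exact ncard_set100
    · rintro ⟨g, hD, hW, e⟩
      have h1 := co0_dot g bD z
      have h2 := co0_dot g bW z
      rw [hD, e] at h1
      rw [hW, e] at h2
      refine ⟨⟨z.2, ?_, ?_⟩, ?_⟩
      · rw [← co0_norm g z, e]; exact base_facts.2.1.2
      · exact h1.symm.trans base_facts.2.2.2.2.2.1
      · exact h2.symm.trans base_facts.2.2.2.2.2.2.2.2.2.2.1
  have hst : hsGroup ⊓ MulAction.stabilizer Co0 bA = perm22.map permHom := by
    apply le_antisymm
    · rintro g ⟨⟨gD, gW⟩, gA⟩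
      obtain ⟨τ, hτ, rfl⟩ := perm22_of_fix gD
        (by rw [← bD_add_bW, co0_add, show g • bD = bD from gD, show g • bW = bW from gW]) gA
      exact Subgroup.mem_map_of_mem _ hτ
    · rintro g ⟨τ, hτ, rfl⟩
      obtain ⟨h1, h2, h3, -⟩ := perm22_fix_base hτ
      exact ⟨⟨h1, h3⟩, h2⟩
  rw [h100, hst, Subgroup.card_map_of_injective permHom_injective, card_perm22]

theorem card_pointGroup : Nat.card pointGroup = 126000 := by
  have h := card_eq_orb_mul hsGroup bT
  have h352 : (orb hsGroup bT).ncard = 352 := by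
    rw [orb_hs (S := set352) fun z => ⟨fun hz => to352 hz, ?_⟩,
      ncard_val (fun z => z ∈ set352) fun z hz => hz.1.1]
    · exact ncard_set352
    · rintro ⟨g, hD, hW, e⟩
      have h1 := co0_dot g bD z
      have h2 := co0_dot g bW z
      rw [hD, e] at h1
      rw [hW, e] at h2
      refine ⟨⟨z.2, ?_, ?_⟩, ?_⟩
      · rw [← co0_norm g z, e]; exact pt352_facts.2.1
      · exact h1.symm.trans pt352_facts.2.2.1
      · exact h2.symm.trans pt352_facts.2.2.2
  rw [card_hsGroup, h352] at h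
  show Nat.card ↥(hsGroup ⊓ MulAction.stabilizer Co0 bT) = 126000
  omega

end CfsgLib.Leech.U35
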